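import Cfsg.Agent.Lib.RuAut.CoverChecks0
import Cfsg.Agent.Lib.RuAut.CoverChecks1
import Cfsg.Agent.Lib.RuAut.CoverChecks2

/-! Computations for the double cover. -/

set_option autoImplicit false
set_option maxRecDepth 100000

namespace CfsgLib.RuAut

open CfsgLib.CosetEnum

theorem cover_trans : allFrom coverTransOK 16240 0 = true := by decide +kernel

theorem scalar_sift : scalarSiftOK = true := by decide +kernel

theorem cover_sift {g v : ℕ} (hg : g < 3) (hv : v < 16240) : coverSiftOK g v = true := by
  rcases Nat.lt_or_ge v 8120 with h | h <;> interval_cases g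
  · exact allFrom_spec _ _ _ cover_sift0a v (Nat.zero_le _) (by omega)
  · exact allFrom_spec _ _ _ cover_sift1a v (Nat.zero_le _) (by omega)
  · exact allFrom_spec _ _ _ cover_sift2a v (Nat.zero_le _) (by omega)
  · exact allFrom_spec _ _ _ cover_sift0b v h (by omega)
  · exact allFrom_spec _ _ _ cover_sift1b v h (by omega)
  · exact allFrom_spec _ _ _ cover_sift2b v h (by omega)

theorem fixed_checks :
    allFrom (fun j => !(Nat.beq (permT.get 20 j) j && Nat.beq (permT2.get 20 j) j) || Nat.blt j 4) 16240 0 = true ∧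
      Nat.beq (lineTab.get 20 1) 0 = true ∧ Nat.beq (lineTab.get 20 2) 0 = true ∧ Nat.beq (lineTab.get 20 3) 0 = true ∧
      Nat.beq (lineTab.get 20 0) 0 = true ∧ Nat.beq (repTab.get 20 0) 0 = true := by
  refine ⟨?_, ?_, ?_, ?_, ?_, ?_⟩ <;> decide +kernel

end CfsgLib.RuAut
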