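import Cfsg.Agent.Lib.RuAut.Tits
import Cfsg.Agent.Lib.RuAut.CoverChecks

/-! The automorphism group: order, centre and the kernel of the action on lines. -/

set_option autoImplicit false
set_option maxRecDepth 100000

namespace CfsgLib.RuAut

open Cfsg Cfsg.Spor CfsgLib.RuLat CfsgLib.CosetEnum

attribute [local irreducible] Tr.get

/-- The double cover. -/
noncomputable def coverGrp : Subgroup fourRu := Subgroup.closure {eW, eT, eT2}

theorem tits_le_cover : titsGrp ≤ coverGrp := Subgroup.closure_mono (Set.subset_insert _ _)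

theorem realised_cover : Realised piV coverGrp coverTab := by
  intro j hj
  have hj : j < 6 := hj
  interval_cases j
  · exact ⟨eW, Subgroup.subset_closure (by simp), fun k => by rw [acts_eW k, act_get _ (by decide)]; rfl⟩
  · exact ⟨eT, Subgroup.subset_closure (by simp), fun k => by rw [acts_eT k, act_get _ (by decide)]; rfl⟩
  · exact ⟨eT2, Subgroup.subset_closure (by simp), fun k => by rw [acts_eT2 k, act_get _ (by decide)]; rfl⟩
  · exact ⟨eW⁻¹, inv_mem (Subgroup.subset_closure (by simp)), fun k => by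
      rw [acts_inv_all.1 k, act_get _ (by decide)]; rfl⟩
  · exact ⟨eT⁻¹, inv_mem (Subgroup.subset_closure (by simp)), fun k => by
      rw [acts_inv_all.2.1 k, act_get _ (by decide)]; rfl⟩
  · exact ⟨eT2⁻¹, inv_mem (Subgroup.subset_closure (by simp)), fun k => by
      rw [acts_inv_all.2.2 k, act_get _ (by decide)]; rfl⟩

theorem coverTrans_spec (v : Fin 16240) :
    lettersOK coverTab (kWord.get 32 v) = true ∧ scanC coverTab (kWord.get 32 v) 0 = v := by
  have h := allFrom_spec _ _ _ cover_trans v (Nat.zero_le _) (by have := v.2; omega)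
  unfold coverTransOK at h
  simp only [strict_eq, Bool.and_eq_true] at h
  exact ⟨h.1, Nat.eq_of_beq_eq_true h.2⟩

/-- Transversal elements of the double cover. -/
noncomputable def coverRep (v : Fin 16240) : fourRu :=
  (exists_word piV realised_cover (coverTrans_spec v).1).choose

theorem coverRep_mem (v : Fin 16240) : coverRep v ∈ coverGrp :=
  (exists_word piV realised_cover (coverTrans_spec v).1).choose_spec.1

theorem coverRep_apply (v k : Fin 16240) :
    ((piV (coverRep v) k : Fin 16240) : ℕ) = scanC coverTab (kWord.get 32 v) k :=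
  (exists_word piV realised_cover (coverTrans_spec v).1).choose_spec.2 k

theorem coverRep_base (v : Fin 16240) : piV (coverRep v) (bPt 0) = v := by
  refine Fin.ext ?_
  rw [coverRep_apply, bPt_val.1, (coverTrans_spec v).2]

theorem piV_inv_mul (r s : fourRu) {a : Fin 16240} {b : Fin 16240} (h : piV r a = piV s b) :
    piV (r⁻¹ * s) b = a := by
  rw [map_mul, Equiv.Perm.mul_apply, ← h, ← Equiv.Perm.mul_apply, ← map_mul, inv_mul_cancel, map_one,
    Equiv.Perm.one_apply]

/-- The sifted set of the double cover. -/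
noncomputable def coverSet : Set fourRu := {z | ∃ v : Fin 16240, ∃ t ∈ titsGrp, z = coverRep v * t}

theorem coverSet_closed {g : ℕ} (hg : g < 3) {eg : fourRu}
    (hact : ∀ k : Fin 16240, ((piV eg k : Fin 16240) : ℕ) = act coverTab g k) :
    ∀ y ∈ coverSet, eg * y ∈ coverSet := by
  rintro _ ⟨v, t, ht, rfl⟩
  have h := cover_sift hg v.2
  unfold coverSiftOK at h
  simp only [strict_eq, Bool.and_eq_true, Nat.blt_eq] at h
  obtain ⟨⟨⟨⟨⟨hv', hi⟩, hx⟩, h1⟩, h2⟩, h3⟩ := h
  have h1 := Nat.eq_of_beq_eq_true h1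
  have h2 := Nat.eq_of_beq_eq_true h2
  have h3 := Nat.eq_of_beq_eq_true h3
  set v' : Fin 16240 := ⟨_, hv'⟩
  set i : Fin 2304 := ⟨_, hi⟩
  set x : Fin 16240 := ⟨_, hx⟩
  have q0 : piV (coverRep v') (bPt 0) = piV (eg * coverRep v) (bPt 0) := by
    rw [map_mul, Equiv.Perm.mul_apply, coverRep_base, coverRep_base]
    exact Fin.ext (hact v).symm
  have hr : ∀ k : Fin 16240, ((piV (eg * coverRep v) k : Fin 16240) : ℕ) =
      act coverTab g (scanC coverTab (kWord.get 32 v) k) := fun k => by
    rw [map_mul, Equiv.Perm.mul_apply, hact, coverRep_apply]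
  have q1 : piV (coverRep v') (piV (titsRep i) (bPt 1)) = piV (eg * coverRep v) (bPt 1) := by
    refine Fin.ext ?_
    rw [coverRep_apply, titsRep_apply, hr, bPt_val.2.1, (titsTrans_spec i.2).2.1]
    exact h1
  have q2 : piV (coverRep v') (piV (titsRep i) x) = piV (eg * coverRep v) (bPt 2) := by
    refine Fin.ext ?_
    rw [coverRep_apply, titsRep_apply, hr, bPt_val.2.2.1]
    exact h2
  set s := (coverRep v')⁻¹ * (eg * coverRep v)
  have s0 := piV_inv_mul _ _ q0
  have s1 := piV_inv_mul _ _ q1
  have s2 := piV_inv_mul _ _ q2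
  have u2 : piV ((titsRep i)⁻¹ * s) (bPt 2) = x := piV_inv_mul _ _ s2.symm
  have hC : InC2 x := by
    rw [← u2]
    exact inC2_piV (fixes_two (piV_inv_mul _ _ ((titsGrp_fix (titsRep_mem i)).trans s0.symm))
      (piV_inv_mul _ _ s1.symm)) inC2_base
  have q3 : piV (coverRep v') (piV (titsRep i) (phiF x)) = piV (eg * coverRep v) (bPt 3) := by
    refine Fin.ext ?_
    rw [coverRep_apply, titsRep_apply, hr, bPt_val.2.2.2.1, ← h3]
    obtain ⟨a, ha, hax⟩ := exists_C2_index hC
    have hp := allFrom_spec _ _ _ equiv_phi.1 a (Nat.zero_le _) (by omega)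
    unfold equivPhiOK at hp
    simp only [strict_eq, Bool.and_eq_true, Nat.blt_eq] at hp
    rw [hax] at hp
    rw [show ((phiF x : Fin 16240) : ℕ) = phiTab.get 20 x from Nat.mod_eq_of_lt hp.1]
  have hs : s ∈ titsGrp := mem_titsGrp s0 i s1.symm s2.symm (piV_inv_mul _ _ q3).symm
  exact ⟨v', s * t, titsGrp.mul_mem hs ht, by simp only [s]; group⟩

theorem mem_coverSet {z : fourRu} (hz : z ∈ coverGrp) : z ∈ coverSet := by
  have h1 : (1 : fourRu) ∈ coverSet := by
    refine ⟨bPt 0, (coverRep (bPt 0))⁻¹, inv_mem ?_, by group⟩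
    have : coverRep (bPt 0) = 1 := eq_one_of_fixed fun k => Fin.ext (by
      rw [coverRep_apply, bPt_val.1]
      have : unpack (kWord.get 32 0) = [] := by decide +kernel
      rw [scanC_eq, this, scan_nil])
    rw [this]
    exact titsGrp.one_mem
  have := closure_mul_mem {eW, eT, eT2} coverSet (fun g hg => by
    rcases hg with rfl | rfl | rfl
    · exact coverSet_closed (g := 0) (by norm_num) fun k => by rw [acts_eW k, act_get _ (by decide)]; rfl
    · exact coverSet_closed (g := 1) (by norm_num) fun k => by rw [acts_eT k, act_get _ (by decide)]; rfl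
    · exact coverSet_closed (g := 2) (by norm_num) fun k => by rw [acts_eT2 k, act_get _ (by decide)]; rfl) hz 1 h1
  rwa [mul_one] at this

theorem cover_stab {z : fourRu} (hz : z ∈ coverGrp) (h0 : piV z (bPt 0) = bPt 0) : z ∈ titsGrp := by
  obtain ⟨v, t, ht, rfl⟩ := mem_coverSet hz
  rw [map_mul, Equiv.Perm.mul_apply, titsGrp_fix ht, coverRep_base] at h0
  subst h0
  refine mul_mem ?_ ht
  have : coverRep (bPt 0) = 1 := eq_one_of_fixed fun k => Fin.ext (by
    rw [coverRep_apply, bPt_val.1]
    have : unpack (kWord.get 32 0) = [] := by decide +kernel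
    rw [scanC_eq, this, scan_nil])
  rw [this]
  exact titsGrp.one_mem

theorem card_coverGrp : Nat.card coverGrp = 291852288000 := by
  have hbij : Function.Bijective fun p : Fin 16240 × titsGrp =>
      (⟨coverRep p.1 * p.2, mul_mem (coverRep_mem _) (tits_le_cover p.2.2)⟩ : coverGrp) := by
    constructor
    · intro p q h
      have h' : coverRep p.1 * p.2 = coverRep q.1 * q.2 := congrArg Subtype.val h
      have hv : p.1 = q.1 := by
        have := congrArg (fun z => piV z (bPt 0)) h'
        simp only [map_mul, Equiv.Perm.mul_apply] at this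
        rwa [titsGrp_fix p.2.2, titsGrp_fix q.2.2, coverRep_base, coverRep_base] at this
      rw [hv] at h'
      exact Prod.ext hv (Subtype.ext (mul_left_cancel h'))
    · rintro ⟨z, hz⟩
      obtain ⟨v, t, ht, rfl⟩ := mem_coverSet hz
      exact ⟨(v, ⟨t, ht⟩), rfl⟩
  rw [← Nat.card_eq_of_bijective _ hbij, Nat.card_prod, Nat.card_fin, card_titsGrp]

theorem eI_not_mem : eI ∉ coverGrp := by
  intro hI
  have h := scalar_sift
  unfold scalarSiftOK at h
  simp only [strict_eq, Bool.and_eq_true, Nat.blt_eq, Bool.not_eq_true'] at h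
  obtain ⟨⟨⟨⟨hi, hx⟩, h1⟩, h2⟩, h3⟩ := h
  set i : Fin 2304 := ⟨_, hi⟩
  set x : Fin 16240 := ⟨_, hx⟩
  set v := jI (bPt 0) with hv
  have hj : ∀ k : Fin 16240, ((piV eI k : Fin 16240) : ℕ) = jTab.get 20 k := fun k => by rw [piV_eI, val_jI]
  set τ := (coverRep v)⁻¹ * eI with hτdef
  have hτ0 : piV τ (bPt 0) = bPt 0 := piV_inv_mul _ _ (by rw [coverRep_base, piV_eI])
  have hτ : τ ∈ titsGrp := cover_stab (mul_mem (inv_mem (coverRep_mem v)) hI) hτ0
  have hvw : (v : ℕ) = jTab.get 20 0 := by rw [hv, val_jI, bPt_val.1]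
  have e1 : piV (titsRep i) (bPt 1) = piV τ (bPt 1) := by
    refine (piV_inv_mul _ _ (Fin.ext ?_)).symm
    rw [coverRep_apply, titsRep_apply, hj, hvw, bPt_val.2.1, (titsTrans_spec i.2).2.1]
    exact Nat.eq_of_beq_eq_true h1
  have e2 : piV (titsRep i) x = piV τ (bPt 2) := by
    refine (piV_inv_mul _ _ (Fin.ext ?_)).symm
    rw [coverRep_apply, titsRep_apply, hj, hvw, bPt_val.2.2.1]
    exact Nat.eq_of_beq_eq_true h2
  have e3 := sift_of_mem hτ i e1 e2
  have hC : InC2 x := by
    rw [← piV_inv_mul _ _ e2]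
    exact inC2_piV (fixes_two (piV_inv_mul _ _ ((titsGrp_fix (titsRep_mem i)).trans hτ0.symm))
      (piV_inv_mul _ _ e1)) inC2_base
  obtain ⟨a, ha, hax⟩ := exists_C2_index hC
  have hp := allFrom_spec _ _ _ equiv_phi.1 a (Nat.zero_le _) (by omega)
  unfold equivPhiOK at hp
  simp only [strict_eq, Bool.and_eq_true, Nat.blt_eq] at hp
  rw [hax] at hp
  have e := congrArg Fin.val (congrArg (piV (coverRep v)) e3)
  rw [← Equiv.Perm.mul_apply (piV (coverRep v)) (piV τ), ← map_mul, hτdef, mul_inv_cancel_left, coverRep_apply,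
    titsRep_apply, hj, hvw, bPt_val.2.2.2.1,
    show ((phiF x : Fin 16240) : ℕ) = phiTab.get 20 x from Nat.mod_eq_of_lt hp.1] at e
  rw [e] at h3
  simp at h3

theorem card_le_gFix_zero : Nat.card fourRu ≤ 583704576000 := by
  have h4 := card_gFix_four
  have h3 : Nat.card (gFix 3) ≤ 2 * Nat.card (gFix 4) :=
    card_le_of_orbit piV (gFix 3) (gFix 4) (bPt 3) (fun f hf h => fixes_succ hf h) 2
      (fun i => if i = 0 then 7553 else 7557) fun f hf => by
        rcases class_three hf with h | h
        · exact ⟨0, by norm_num, h.symm⟩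
        · exact ⟨1, by norm_num, h.symm⟩
  have h2 : Nat.card (gFix 2) ≤ 78 * Nat.card (gFix 3) :=
    card_le_of_orbit piV (gFix 2) (gFix 3) (bPt 2) (fun f hf h => fixes_succ hf h) 78 (fun i => lev2P.get 20 i)
      fun f hf => (class_two hf).imp fun i h => ⟨h.1, h.2.1⟩
  have h1 : Nat.card (gFix 1) ≤ 2304 * Nat.card (gFix 2) :=
    card_le_of_orbit piV (gFix 1) (gFix 2) (bPt 1) (fun f hf h => fixes_succ hf h) 2304 (fun i => lev1P.get 20 i)
      fun f hf => (class_one hf).imp fun i h => ⟨h.1, h.2.1⟩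
  have h0 : Nat.card (⊤ : Subgroup fourRu) ≤ 16240 * Nat.card (gFix 1) :=
    card_le_of_orbit piV ⊤ (gFix 1) (bPt 0) (fun f _ h => fixes_succ (fun k hk => absurd hk (Nat.not_lt_zero k)) h)
      16240 (fun i => i) fun f _ => ⟨_, (piV f (bPt 0)).2, rfl⟩
  rw [Subgroup.card_top] at h0
  omega

theorem coverGrp_index : coverGrp.index = 2 ∧ Nat.card fourRu = 583704576000 := by
  have h1 := Subgroup.card_mul_index coverGrp
  rw [card_coverGrp] at h1
  have h2 := card_le_gFix_zero
  have hne : coverGrp.index ≠ 1 := fun h => eI_not_mem (by rw [Subgroup.index_eq_one.1 h]; exact Subgroup.mem_top _)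
  have h0 : coverGrp.index ≠ 0 := Subgroup.index_ne_zero_of_finite
  have : coverGrp.index ≤ 2 := by
    by_contra h
    have : 291852288000 * 3 ≤ 291852288000 * coverGrp.index := Nat.mul_le_mul_left _ (by omega)
    omega
  have e : coverGrp.index = 2 := by omega
  exact ⟨e, by rw [← h1, e]⟩

theorem card_fourRu : Nat.card fourRu = 583704576000 := coverGrp_index.2

theorem card_gFix_one : Nat.card (gFix 1) = 35942400 := by
  have e : Nat.card fourRu = 16240 * Nat.card (gFix 1) := by
    let F : Fin 16240 × gFix 1 → fourRu := fun p => coverRep p.1 * p.2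
    have hb : Function.Bijective F := by
      constructor
      · intro p q h
        have hv : p.1 = q.1 := by
          have := congrArg (fun z => piV z (bPt 0)) h
          simp only [F, map_mul, Equiv.Perm.mul_apply] at this
          rwa [p.2.2 0 (by norm_num), q.2.2 0 (by norm_num), coverRep_base, coverRep_base] at this
        simp only [F, hv] at h
        exact Prod.ext hv (Subtype.ext (mul_left_cancel h))
      · intro z
        refine ⟨(piV z (bPt 0), ⟨(coverRep (piV z (bPt 0)))⁻¹ * z, fun k hk => ?_⟩), by simp [F]⟩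
        obtain rfl : k = 0 := by omega
        exact piV_inv_mul _ _ (coverRep_base _)
    rw [← Nat.card_eq_of_bijective F hb, Nat.card_prod, Nat.card_fin]
  rw [card_fourRu] at e
  omega

theorem fixed_by_tits {j : Fin 16240} (h : ∀ t ∈ titsGrp, piV t j = j) : (j : ℕ) < 4 := by
  have c := allFrom_spec _ _ _ fixed_checks.1 j (Nat.zero_le _) (by have := j.2; omega)
  simp only [Bool.or_eq_true, Bool.not_eq_true', Bool.and_eq_false_iff, Nat.blt_eq] at c
  rcases c with (c | c) | c
  · rw [← acts_eT j, h eT (Subgroup.subset_closure (by simp))] at c; simp at c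
  · rw [← acts_eT2 j, h eT2 (Subgroup.subset_closure (by simp))] at c; simp at c
  · exact c

theorem line_zero {j : Fin 16240} (h : (j : ℕ) < 4) : lineOf j = lineOf (bPt 0) := by
  refine Fin.ext ?_
  rw [val_lineOf, val_lineOf, bPt_val.1]
  obtain ⟨-, l1, l2, l3, l0, -⟩ := fixed_checks
  generalize hk : (j : ℕ) = k at h
  interval_cases k <;> rw [Nat.eq_of_beq_eq_true l0] <;>
    first | exact Nat.eq_of_beq_eq_true l1 | exact Nat.eq_of_beq_eq_true l2 | exact Nat.eq_of_beq_eq_true l3 |
      exact Nat.eq_of_beq_eq_true l0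

theorem repOf_zero : repOf (lineOf (bPt 0)) = bPt 0 := by
  refine Fin.ext ?_
  rw [val_repOf, val_lineOf, bPt_val.1, Nat.eq_of_beq_eq_true fixed_checks.2.2.2.2.1]
  exact Nat.eq_of_beq_eq_true fixed_checks.2.2.2.2.2

theorem eI_pow_apply (a : ℕ) (j : Fin 16240) : piV (eI ^ a) j = (jI^[a]) j := by
  induction a with
  | zero => rw [pow_zero, map_one]; rfl
  | succ a ih => rw [pow_succ', map_mul, Equiv.Perm.mul_apply, ih, piV_eI, Function.iterate_succ_apply']

/-- The scalars. -/
noncomputable def scalars : Subgroup fourRu := Subgroup.zpowers eI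

theorem exists_scalar_fix {z : fourRu} (h : piL z (lineOf (bPt 0)) = lineOf (bPt 0)) :
    ∃ s ∈ scalars, piV (s⁻¹ * z) (bPt 0) = bPt 0 := by
  rw [piL_lineOf] at h
  obtain ⟨a, -, ha⟩ := eq_rep (piV z (bPt 0))
  rw [h, repOf_zero, ← eI_pow_apply] at ha
  exact ⟨eI ^ a, Subgroup.npow_mem_zpowers _ _, piV_inv_mul _ _ ha.symm⟩

theorem center_eq : Subgroup.center fourRu = scalars := by
  refine le_antisymm (fun z hz => ?_) ?_
  · rw [Subgroup.mem_center_iff] at hz
    have hfix : (piV z (bPt 0) : ℕ) < 4 := fixed_by_tits fun t ht => by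
      rw [← Equiv.Perm.mul_apply, ← map_mul, hz t, map_mul, Equiv.Perm.mul_apply, titsGrp_fix ht]
    obtain ⟨s, hs, hsz⟩ := exists_scalar_fix (z := z) (by rw [piL_lineOf, line_zero hfix])
    have hc : ∀ g, g * (s⁻¹ * z) = s⁻¹ * z * g := by
      intro g
      have hgs : Commute g s := by
        obtain ⟨k, rfl⟩ := hs
        exact Commute.zpow_right (eI_comm g) k
      rw [← mul_assoc, hgs.inv_right.eq, mul_assoc, hz g, mul_assoc]
    have : s⁻¹ * z = 1 := eq_one_of_fixed fun k => by
      conv_lhs => rw [← coverRep_base k]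
      rw [← Equiv.Perm.mul_apply, ← map_mul, ← hc, map_mul, Equiv.Perm.mul_apply, hsz, coverRep_base]
    rw [inv_mul_eq_one] at this
    exact this ▸ hs
  · rw [scalars, Subgroup.zpowers_le, Subgroup.mem_center_iff]
    exact fun g => eI_comm g

theorem eI_pow_four : eI ^ 4 = 1 := by
  refine eq_one_of_fixed fun j => ?_
  rw [eI_pow_apply]
  refine Fin.ext (vec_injective (Fin.is_lt _) j.2 ?_)
  show vec ((jI^[4]) j : Fin 16240) = vec j
  simp only [Function.iterate_succ_apply', Function.iterate_zero_apply, vec_jI, smul_smul]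
  rw [show gI * (gI * (gI * gI)) = 1 by decide, one_smul]

theorem card_center : Nat.card (Subgroup.center fourRu) = 4 := by
  rw [center_eq, scalars, Nat.card_zpowers]
  refine orderOf_eq_prime_pow (p := 2) (n := 1) ?_ ?_
  · intro h
    have := congrArg (fun z => ((piV z (bPt 0) : Fin 16240) : ℕ)) h
    simp only [eI_pow_apply, map_one, Equiv.Perm.one_apply] at this
    rw [show (2 : ℕ) ^ 1 = 2 from rfl, Function.iterate_succ_apply', Function.iterate_one, val_jI, val_jI,
      bPt_val.1] at this
    revert this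
    decide +kernel
  · exact eI_pow_four

theorem card_Ru : Nat.card Ru = 145926144000 := by
  have h := Subgroup.card_eq_card_quotient_mul_card_subgroup (Subgroup.center fourRu)
  rw [card_center, card_fourRu] at h
  show Nat.card (fourRu ⧸ Subgroup.center fourRu) = _
  omega

end CfsgLib.RuAut
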