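import Cfsg.Agent.Lib.RuAut.GroupDefs

/-! Sifting of the Schreier generators of the double cover for one generator. -/

set_option autoImplicit false
set_option maxRecDepth 100000

namespace CfsgLib.RuAut

open CfsgLib.CosetEnum

theorem cover_sift0a : allFrom (coverSiftOK 0) 8120 0 = true := by decide +kernel

theorem cover_sift0b : allFrom (coverSiftOK 0) 8120 8120 = true := by decide +kernel

end CfsgLib.RuAut
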