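import Cfsg.Agent.Lib.RuAut.Lines

/-! Simplicity of the quotient by the scalars. -/

set_option autoImplicit false
set_option maxRecDepth 100000

namespace CfsgLib.RuAut

open Cfsg Cfsg.Spor CfsgLib.RuLat CfsgLib.CosetEnum

theorem scalars_le_lineStab : scalars ≤ lineStab := by
  rw [scalars, Subgroup.zpowers_le]
  show piL eI (lineOf (bPt 0)) = _
  rw [piL_lineOf, piV_eI, lineOf_jI]

theorem cover_sup_scalars : coverGrp ⊔ scalars = ⊤ := by
  by_contra hne
  have h1 : (coverGrp ⊔ scalars).index ≠ 1 := fun h => hne (Subgroup.index_eq_one.1 h)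
  have h2 := Subgroup.index_dvd_of_le (le_sup_left : coverGrp ≤ coverGrp ⊔ scalars)
  rw [coverGrp_index.1] at h2
  rcases (Nat.dvd_prime Nat.prime_two).1 h2 with h | h
  · exact h1 h
  · have heq : coverGrp = coverGrp ⊔ scalars := Subgroup.eq_of_le_of_card_ge le_sup_left (le_of_eq (by
      have ha := Subgroup.card_mul_index coverGrp
      rw [← Subgroup.card_mul_index (coverGrp ⊔ scalars), h, coverGrp_index.1] at ha
      omega))
    exact eI_not_mem (heq ▸ (le_sup_right : scalars ≤ coverGrp ⊔ scalars) (Subgroup.mem_zpowers eI))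

theorem normal_eq (N : Subgroup fourRu) [N.Normal] (hc : scalars ≤ N) (hne : ¬ N ≤ scalars) : N = ⊤ := by
  have hmove : ∃ z ∈ N, ∃ l, piL z l ≠ l := by
    by_contra h
    push Not at h
    exact hne fun z hz => piL_ker fun l => h z hz l
  have hsup := sup_eq_top piL (lineOf (bPt 0)) lineStab N (fun z => Iff.rfl)
    (fun l => piL_transitive l _) lineStab_maximal hmove
  have hidx : lineStab.index = 4060 := by
    have hi := Subgroup.card_mul_index lineStab
    rw [card_lineStab, card_fourRu] at hi
    omega
  have hdvd := index_dvd_card_of_sup_eq_top lineStab N hsup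
  rw [hidx] at hdvd
  have : Fact (Nat.Prime 29) := ⟨by norm_num⟩
  have hw : eW ∈ N :=
    mem_of_prime_dvd N 29 (Nat.dvd_trans (by norm_num) hdvd) (by rw [card_fourRu]; norm_num) _ orderOf_eW
  have := isSimple_titsGrp
  rcases IsSimpleGroup.eq_bot_or_eq_top_of_normal (N.subgroupOf titsGrp) (Subgroup.normal_subgroupOf) with ht | ht
  · exfalso
    -- `N` is small
    have hinj : Function.Injective fun p : (N ⊓ lineStab : Subgroup fourRu) × titsGrp =>
        (⟨p.1 * p.2, lineStab.mul_mem (Subgroup.mem_inf.1 p.1.2).2 (tits_le_lineStab p.2.2)⟩ : lineStab) := by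
      intro p q h
      have h' : (p.1 : fourRu) * p.2 = q.1 * q.2 := congrArg Subtype.val h
      have e : (q.1 : fourRu)⁻¹ * p.1 = q.2 * (p.2 : fourRu)⁻¹ := by
        rw [eq_mul_inv_iff_mul_eq, mul_assoc, h', inv_mul_cancel_left]
      have hm : (⟨q.2 * (p.2 : fourRu)⁻¹, mul_mem q.2.2 (inv_mem p.2.2)⟩ : titsGrp) ∈ N.subgroupOf titsGrp := by
        rw [Subgroup.mem_subgroupOf]
        show (q.2 : fourRu) * (p.2 : fourRu)⁻¹ ∈ N
        rw [← e]
        exact N.mul_mem (N.inv_mem (Subgroup.mem_inf.1 q.1.2).1) (Subgroup.mem_inf.1 p.1.2).1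
      rw [ht, Subgroup.mem_bot] at hm
      have h2 : (q.2 : fourRu) = p.2 := mul_inv_eq_one.1 (congrArg Subtype.val hm)
      rw [h2] at h'
      exact Prod.ext (Subtype.ext (mul_right_cancel h')) (Subtype.ext h2.symm)
    have h8 := Nat.card_le_card_of_injective _ hinj
    rw [Nat.card_prod, card_titsGrp, card_lineStab] at h8
    have h4 : 4 ≤ Nat.card (N ⊓ lineStab : Subgroup fourRu) := by
      have := Subgroup.card_le_of_le (le_inf hc scalars_le_lineStab)
      rwa [← center_eq, card_center] at this
    have hdvd4 : 4 ∣ Nat.card (N ⊓ lineStab : Subgroup fourRu) := by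
      have := Subgroup.card_dvd_of_le (le_inf hc scalars_le_lineStab)
      rwa [← center_eq, card_center] at this
    have hN : Nat.card N = 4060 * Nat.card (N ⊓ lineStab : Subgroup fourRu) := by
      have h := Subgroup.card_mul_index (N.subgroupOf lineStab)
      rw [← Subgroup.inf_subgroupOf_right N lineStab,
        Nat.card_congr (Subgroup.subgroupOfEquivOfLe (inf_le_right : N ⊓ lineStab ≤ lineStab)).toEquiv,
        Subgroup.inf_subgroupOf_right] at h
      have h2 := Subgroup.relIndex_sup_left lineStab N
      rw [sup_comm, hsup, Subgroup.relIndex_top_right] at h2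
      change Nat.card (N ⊓ lineStab : Subgroup fourRu) * N.relIndex lineStab = _ at h
      rw [← h2, card_lineStab] at h
      have h3 := Subgroup.card_mul_index N
      rw [card_fourRu] at h3
      refine Nat.eq_of_mul_eq_mul_right (Nat.pos_of_ne_zero (Subgroup.index_ne_zero_of_finite (H := N))) ?_
      rw [h3, mul_assoc, h]; norm_num
    obtain ⟨P, hPw⟩ := IsPGroup.exists_le_sylow (p := 29) (P := Subgroup.zpowers (⟨eW, hw⟩ : N))
      (IsPGroup.of_card (n := 1) (by rw [pow_one, Nat.card_zpowers, Subgroup.orderOf_mk, orderOf_eW]))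
    have hP : Nat.card P = 29 := by
      obtain ⟨k, hk⟩ := IsPGroup.iff_card.mp P.isPGroup'
      have h1 : 29 ∣ Nat.card P := by
        have := Subgroup.card_dvd_of_le hPw
        rwa [Nat.card_zpowers, Subgroup.orderOf_mk, orderOf_eW] at this
      rcases k with _ | _ | k
      · rw [hk, pow_zero] at h1; norm_num at h1
      · rw [hk, pow_one]
      · exfalso
        have h2 : 29 ^ 2 ∣ Nat.card fourRu :=
          ((pow_dvd_pow 29 (by omega : 2 ≤ k + 1 + 1)).trans (hk ▸ P.toSubgroup.card_subgroup_dvd_card)).trans
            N.card_subgroup_dvd_card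
        rw [card_fourRu] at h2
        norm_num at h2
    have hnum : Nat.card (Sylow 29 N) = 1 := by
      have h1 := P.card_dvd_index
      have h2 := card_sylow_modEq_one 29 N
      have hi := Subgroup.index_mul_card (P : Subgroup N)
      rw [hP, hN] at hi
      have hdiv : ∀ d, d ∣ 560 ∨ d ∣ 1120 → d % 29 = 1 → d = 1 := by
        intro d hd
        have : d ≤ 1120 := by
          rcases hd with h | h
          · exact le_trans (Nat.le_of_dvd (by norm_num) h) (by norm_num)
          · exact Nat.le_of_dvd (by norm_num) h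
        revert hd
        revert this
        revert d
        decide +kernel
      refine hdiv _ ?_ h2
      rcases (by omega : Nat.card (N ⊓ lineStab : Subgroup fourRu) = 4 ∨
        Nat.card (N ⊓ lineStab : Subgroup fourRu) = 8) with e | e <;> rw [e] at hi
      · left; rwa [show (P : Subgroup N).index = 560 by omega] at h1
      · right; rwa [show (P : Subgroup N).index = 1120 by omega] at h1
    have hsub : Subsingleton (Sylow 29 N) := (Nat.card_eq_one_iff_unique.1 hnum).1
    have : (P : Subgroup N).Normal := Sylow.normal_of_subsingleton P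
    have hch : (P : Subgroup N).Characteristic := Sylow.characteristic_of_normal P inferInstance
    have hPn : ((P : Subgroup N).map N.subtype).Normal := ConjAct.normal_of_characteristic_of_normal
    have hmove' : ∃ z ∈ (P : Subgroup N).map N.subtype, ∃ l, piL z l ≠ l := by
      refine ⟨eW, ⟨⟨eW, hw⟩, hPw (Subgroup.mem_zpowers _), rfl⟩, ?_⟩
      by_contra h
      push Not at h
      have := orderOf_dvd_natCard (G := scalars) ⟨eW, piL_ker h⟩
      rw [Subgroup.orderOf_mk, orderOf_eW, ← center_eq, card_center] at this
      norm_num at this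
    have hsup' := sup_eq_top piL (lineOf (bPt 0)) lineStab _ (fun z => Iff.rfl)
      (fun l => piL_transitive l _) lineStab_maximal hmove'
    have h4060 := index_dvd_card_of_sup_eq_top lineStab _ hsup'
    rw [hidx, Subgroup.card_map_of_injective N.subtype_injective, hP] at h4060
    norm_num at h4060
  · rw [Subgroup.subgroupOf_eq_top] at ht
    have hcov : coverGrp ≤ N := by
      rw [coverGrp, Subgroup.closure_le]
      rintro g (rfl | rfl | rfl)
      · exact hw
      · exact ht (Subgroup.subset_closure (by simp))
      · exact ht (Subgroup.subset_closure (by simp))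
    rw [← top_le_iff, ← cover_sup_scalars]
    exact sup_le hcov hc

theorem isSimple_Ru : IsSimpleGroup Ru := by
  have : Nontrivial Ru := Finite.one_lt_card_iff_nontrivial.1 (by rw [card_Ru]; norm_num)
  refine { eq_bot_or_eq_top_of_normal := fun N hN => ?_ }
  set N' := N.comap (QuotientGroup.mk' (Subgroup.center fourRu))
  have hc : scalars ≤ N' := by
    intro z hz
    rw [← center_eq] at hz
    show (z : Ru) ∈ N
    rw [(QuotientGroup.eq_one_iff z).2 hz]
    exact N.one_mem
  have hmap : N'.map (QuotientGroup.mk' (Subgroup.center fourRu)) = N :=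
    Subgroup.map_comap_eq_self_of_surjective (QuotientGroup.mk'_surjective _) N
  by_cases hle : N' ≤ scalars
  · left
    rw [← hmap, Subgroup.map_eq_bot_iff, QuotientGroup.ker_mk', center_eq]
    exact hle
  · right
    rw [← hmap, normal_eq N' hc hle, Subgroup.map_top_of_surjective _ (QuotientGroup.mk'_surjective _)]

end CfsgLib.RuAut
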