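import Cfsg.Agent.Lib.RuAut.LineDefs

/-! Computations for the actions on lines. -/

set_option autoImplicit false
set_option maxRecDepth 100000

namespace CfsgLib.RuAut

open CfsgLib.CosetEnum

theorem lineLab_checks : allFrom lineLabOK 4060 0 = true := by decide +kernel

theorem o1_checks : allFrom o1OK 1755 0 = true := by decide +kernel

theorem subLab_checks : allFrom subLabOK 1755 0 = true := by decide +kernel

theorem phase_checks : allFrom phaseOK 5 1 = true := by decide +kernel

theorem lineUnion_checks : unionOK lineLab 2 4060 = true ∧ Nat.beq (lineLab.get 8 0) 0 = true := by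
  constructor <;> decide +kernel

theorem subUnion_checks : unionOK subLab 4 1755 = true ∧ Nat.beq (subLab.get 8 0) 0 = true := by
  constructor <;> decide +kernel

theorem conj_sift : conjSiftOK = true := by decide +kernel

theorem chain_zero :
    allFrom (fun i => stepOK aCols o1Lev0P o1Lev0Par o1Lev0Pos aCols.length i) 1755 0 = true ∧
    allFrom (fun k => compOK aCols o1Cols0 o1Words0 k) 1755 0 = true ∧
    fixesAll aCols 0 o1Words0 = true := by
  refine ⟨?_, ?_, ?_⟩ <;> decide +kernel

theorem chain_one :
    allFrom (fun i => stepOK o1Cols0 o1Lev1P o1Lev1Par o1Lev1Pos o1Cols0.length i) 1024 0 = true ∧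
    allFrom (fun k => compOK o1Cols0 o1Cols1 o1Words1 k) 1755 0 = true ∧
    fixesAll o1Cols0 487 o1Words1 = true := by
  refine ⟨?_, ?_, ?_⟩ <;> decide +kernel

theorem chain_two :
    allFrom (fun i => stepOK o1Cols1 o1Lev2P o1Lev2Par o1Lev2Pos o1Cols1.length i) 10 0 = true ∧
    allFrom (fun k => compOK o1Cols1 [] [] k) 1755 0 = true ∧
    fixesAll o1Cols1 1213 [] = true := by
  refine ⟨?_, ?_, ?_⟩ <;> decide +kernel

theorem periods : allFrom (periodOK permT 13) 16240 0 = true ∧ allFrom (periodOK permW 29) 16240 0 = true := by
  constructor <;> decide +kernel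

theorem moves : Nat.beq (permT.get 20 112) 112 = false ∧ Nat.beq (permW.get 20 0) 0 = false := by
  constructor <;> decide +kernel

end CfsgLib.RuAut
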