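import Cfsg.Agent.Lib.RuAut.CodeDefs
import Cfsg.Agent.Lib.RuAut.DataTits
import Cfsg.Agent.Lib.RuAut.DataSingle
import Cfsg.Agent.Lib.RuAut.DataProfile
import Cfsg.Agent.Lib.RuAut.DataLines

/-! Inner product profiles with respect to six base vectors. -/

set_option autoImplicit false
set_option maxRecDepth 100000

namespace CfsgLib.RuAut

open CfsgLib.CosetEnum

/-- The base. -/
def baseList : List ℕ := [0, 112, 116, 7553, 4, 129]

/-- The base vectors and their multiples by the unit of order four. -/
noncomputable def baseVec (s : ℕ) : ℕ :=
  bif Nat.beq (s % 2) 0 then baseList.getD (s / 2) 0 else jTab.get 20 (baseList.getD (s / 2) 0)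

/-- Profile with respect to the first base vectors: one ten bit slot for each inner product, offset by 64. -/
noncomputable def profKey (j c : ℕ) : ℕ :=
  strict (pp (contrP.get 120) (contrN.get 120) 16 (itemOf j)) fun K => K % 2 ^ (10 * c)

/-- Stored contributions of an item. -/
noncomputable def contrOK (p : ℕ) : Bool :=
  allFrom (fun s => strict (dig (baseP.get 560 s) p) fun a => strict (dig (baseN.get 560 s) p) fun b =>
    Nat.ble b (4 + a) && Nat.ble a (4 + b) &&
      Nat.beq (dig (contrP.get 120 p) s) (4 + a - b) && Nat.beq (dig (contrN.get 120 p) s) (4 + b - a)) 12 0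

/-- Stored codes of the base. -/
noncomputable def baseOK (s : ℕ) : Bool :=
  strict (itemOf (baseVec s)) fun B => Nat.beq (baseP.get 560 s) (codeP B) && Nat.beq (baseN.get 560 s) (codeN B)

/-- Every vector with the profile of a base vector is listed. -/
noncomputable def classOK (P pos : Tr) (N c b j : ℕ) : Bool :=
  strict (pos.get 20 j) fun i => !Nat.beq (profKey j c) b || (Nat.blt i N && Nat.beq (P.get 20 i) j)

/-- Position among the distinguished vectors. -/
noncomputable def singlePos (k : ℕ) : ℕ := bsearch singleKey 120 k 7 0 56

/-- The distinguished vectors are determined by their profiles. -/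
noncomputable def singleOK (j : ℕ) : Bool :=
  strict (profKey j 12) fun k => strict (singlePos k) fun t =>
    !(Nat.blt t 56 && Nat.beq (singleKey.get 120 t) k) || Nat.beq (singleIdx.get 20 t) j

/-- The stored profile of a distinguished vector. -/
noncomputable def singleKeyOK (t : ℕ) : Bool :=
  Nat.blt (singleIdx.get 20 t) 16240 && Nat.beq (profKey (singleIdx.get 20 t) 12) (singleKey.get 120 t) &&
    Nat.beq (singlePos (singleKey.get 120 t)) t

/-- Stored codes of the distinguished vectors. -/
noncomputable def singleCodeOK (t : ℕ) : Bool :=
  strict (itemOf (singleIdx.get 20 t)) fun A =>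
    Nat.beq (singleP.get 560 t) (codeP A) && Nat.beq (singleN.get 560 t) (codeN A)

/-- Sum of one side of the combination giving a multiple of a coordinate vector. -/
noncomputable def combSum (A B : Tr) (q r : ℕ) : ℕ → ℕ :=
  fun m => Nat.rec (motive := fun _ => ℕ) 0 (fun t ih =>
    ih + (coefP.get coefW (56 * q + t) * dig (A.get 560 t) r + coefN.get coefW (56 * q + t) * dig (B.get 560 t) r)) m

/-- One coordinate of the combination giving a multiple of a coordinate vector. -/
noncomputable def combOK (q r : ℕ) : Bool :=
  Nat.beq (combSum singleP singleN q r 56)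
    (combSum singleN singleP q r 56 + bif Nat.beq q r then 4 * spanDen else 0)

/-- The other point of the fourth class. -/
noncomputable def classThree (j : ℕ) : Bool :=
  !Nat.beq (profKey j 6) (profKey 7553 6) || Nat.beq j 7553 || Nat.beq j 7557

theorem base_checks : allFrom baseOK 12 0 = true := by decide +kernel

theorem contr_checks : allFrom contrOK 64 0 = true := by decide +kernel

theorem class1 : allFrom (classOK lev1P lev1Pos 2304 2 (profKey 112 2)) 16240 0 = true := by decide +kernel

theorem class2 : allFrom (classOK lev2P lev2Pos 78 4 (profKey 116 4)) 16240 0 = true := by decide +kernel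

theorem class4 : allFrom (classOK lev4P lev4Pos 25 8 (profKey 4 8)) 16240 0 = true := by decide +kernel

theorem class5 : allFrom (classOK lev5P lev5Pos 4 10 (profKey 129 10)) 16240 0 = true := by decide +kernel

theorem class3 : allFrom classThree 16240 0 = true := by decide +kernel

theorem single_checks : allFrom singleOK 16240 0 = true ∧ allFrom singleKeyOK 56 0 = true := by
  constructor <;> decide +kernel

theorem singleCode_checks : allFrom singleCodeOK 56 0 = true := by decide +kernel

theorem comb_checks : allFrom (fun q => allFrom (fun r => combOK q r) 56 0) 56 0 = true := by decide +kernel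

end CfsgLib.RuAut
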