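import Cfsg.Agent.Lib.RuAut.GroupDefs
import Cfsg.Agent.Lib.RuAut.DataLineGroup
import Cfsg.Agent.Lib.RuAut.ProfileChecks

/-! Kernel predicates for the actions on 4060 and on 1755 lines. -/

set_option autoImplicit false

namespace CfsgLib.RuAut

open CfsgLib.CosetEnum

/-- Roots of the orbits of the Tits group on lines. -/
def lineRoots : List ℕ := [0, 1, 28]

/-- Roots of the suborbits on the small orbit. -/
def subRoots : List ℕ := [0, 1, 3, 27, 43]

/-- Orbit of a line under the Tits group. -/
noncomputable def lineLabOK (l : ℕ) : Bool :=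
  strict (lineLab.get 8 l) fun c => strict (lineWord.get 72 l) fun w =>
    Nat.blt c 3 && lettersOK titsTab w &&
      Nat.beq (lineTab.get 20 (scanC titsTab w (repTab.get 20 (lineRoots.getD c 0)))) l

/-- The small orbit. -/
noncomputable def o1OK (i : ℕ) : Bool :=
  strict (o1Pts.get 20 i) fun l => Nat.blt l 4060 && Nat.beq (o1Pos.get 20 l) i &&
    allFrom (fun g => Nat.blt (act aCols g i) 1755 &&
      Nat.beq (lineTab.get 20 (act titsTab g (repTab.get 20 l))) (o1Pts.get 20 (act aCols g i))) 4 0

/-- Suborbit of a point of the small orbit. -/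
noncomputable def subLabOK (k : ℕ) : Bool :=
  strict (subLab.get 8 k) fun c => strict (subWord.get 90 k) fun w =>
    Nat.blt c 5 && lettersOK o1Cols0 w && Nat.beq (scanC o1Cols0 w (subRoots.getD c 0)) k

/-- Phases of the base vectors are determined by their profiles. -/
noncomputable def phaseOK (k : ℕ) : Bool :=
  strict (baseList.getD k 0) fun b => strict (profKey b (2 * k)) fun d => strict (jTab.get 20 b) fun j1 =>
    strict (jTab.get 20 j1) fun j2 => strict (jTab.get 20 j2) fun j3 =>
      !Nat.beq (profKey j1 (2 * k)) d && !Nat.beq (profKey j2 (2 * k)) d && !Nat.beq (profKey j3 (2 * k)) d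

/-- Number of points with a label in a given set. -/
noncomputable def cntLab (lab : Tr) (S : ℕ) : ℕ → ℕ :=
  fun n => Nat.rec (motive := fun _ => ℕ) 0 (fun l ih => ((S >>> lab.get 8 l) &&& 1) + ih) n

/-- No union of classes containing the first one has a proper divisor of `n` as size. -/
noncomputable def unionOK (lab : Tr) (m n : ℕ) : Bool :=
  allFrom (fun s => strict (cntLab lab (2 * s + 1) n) fun k =>
    Nat.beq k 1 || Nat.beq k n || !Nat.beq (n % k) 0) (2 ^ m) 0

/-- The conjugating element sifts into the Tits group. -/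
noncomputable def conjSiftOK : Bool :=
  strict (titsWord 180) fun c =>
    Nat.beq (permC.get 20 0) 0 && Nat.beq (lev1P.get 20 180) (permC.get 20 112) &&
      Nat.beq (scanC titsTab c 8454) (permC.get 20 116) &&
      Nat.beq (scanC titsTab c 891) (permC.get 20 7553) && Nat.beq (phiTab.get 20 8454) 891

end CfsgLib.RuAut

namespace CfsgLib.RuAut

open CfsgLib.CosetEnum

/-- A table has the given period at a point. -/
noncomputable def periodOK (T : Tr) (p j : ℕ) : Bool :=
  Nat.beq (Nat.rec (motive := fun _ => ℕ) j (fun _ ih => T.get 20 ih) p) j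

end CfsgLib.RuAut
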