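import Cfsg.Agent.Lib.RuAut.Cover
import Cfsg.Agent.Lib.RuAut.LineChecks
import Cfsg.Agent.Lib.CosetEnum.Simple

/-! Primitivity on the lines and on the small orbit; simplicity. -/

set_option autoImplicit false
set_option maxRecDepth 100000

namespace CfsgLib.RuAut

open Cfsg Cfsg.Spor CfsgLib.RuLat CfsgLib.CosetEnum

attribute [local irreducible] Tr.get

section Blocks

variable {G : Type*} [Group G] [Finite G] {n : ℕ} (π : G →* Equiv.Perm (Fin n))

theorem card_eq_mul_stab (htr : ∀ l : Fin n, ∀ x, ∃ z, π z x = l) (x : Fin n) (H : Subgroup G)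
    (hH : ∀ z, z ∈ H ↔ π z x = x) : Nat.card G = n * Nat.card H := by
  classical
  choose r hr using fun l => htr l x
  have hb : Function.Bijective fun p : Fin n × H => r p.1 * p.2 := by
    constructor
    · intro p q h
      have hp := (hH _).1 p.2.2
      have hq := (hH _).1 q.2.2
      have hv : p.1 = q.1 := by
        have := congrArg (fun z => π z x) h
        simp only [map_mul, Equiv.Perm.mul_apply] at this
        rwa [hp, hq, hr, hr] at this
      simp only [hv] at h
      exact Prod.ext hv (Subtype.ext (mul_left_cancel h))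
    · intro z
      refine ⟨(π z x, ⟨(r (π z x))⁻¹ * z, (hH _).2 ?_⟩), by simp⟩
      rw [map_mul, map_inv, Equiv.Perm.mul_apply, Equiv.Perm.inv_def, Equiv.symm_apply_eq, hr]
  rw [← Nat.card_eq_of_bijective _ hb, Nat.card_prod, Nat.card_fin]

theorem cntLab_eq (lab : Tr) (S : ℕ) : ∀ m : ℕ,
    cntLab lab S m = ∑ l ∈ Finset.range m, if S.testBit (lab.get 8 l) then 1 else 0
  | 0 => rfl
  | m + 1 => by
    rw [Finset.sum_range_succ, ← cntLab_eq lab S m]
    show ((S >>> lab.get 8 m) &&& 1) + cntLab lab S m = _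
    rw [bit_and_one, add_comm]; rfl

/-- No blocks: a subgroup containing the point stabiliser is it or everything. -/
theorem maximal_of_labels (htr : ∀ l : Fin n, ∀ x, ∃ z, π z x = l) (x : Fin n) (H : Subgroup G)
    (hH : ∀ z, z ∈ H ↔ π z x = x) (lab : Tr) (root : ℕ → Fin n) (m : ℕ)
    (hreach : ∀ l : Fin n, lab.get 8 l < m + 1 ∧ ∃ z ∈ H, π z (root (lab.get 8 l)) = l)
    (hx : lab.get 8 x = 0) (hu : unionOK lab m n = true) (M : Subgroup G) (hM : H ≤ M) : M = H ∨ M = ⊤ := by
  classical
  have hG := card_eq_mul_stab π htr x H hH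
  let B : Finset (Fin n) := Finset.univ.filter fun l => ∃ z ∈ M, π z x = l
  have hBx : x ∈ B := Finset.mem_filter.2 ⟨Finset.mem_univ _, 1, M.one_mem, by rw [map_one]; rfl⟩
  have hclass : ∀ l l' : Fin n, lab.get 8 l = lab.get 8 l' → l ∈ B → l' ∈ B := by
    intro l l' he hl
    obtain ⟨-, z, hz, hzl⟩ := hreach l
    obtain ⟨-, z', hz', hzl'⟩ := hreach l'
    obtain ⟨y, hy, hyl⟩ := (Finset.mem_filter.1 hl).2
    refine Finset.mem_filter.2 ⟨Finset.mem_univ _, z' * z⁻¹ * y,
      M.mul_mem (M.mul_mem (hM hz') (M.inv_mem (hM hz))) hy, ?_⟩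
    rw [map_mul, map_mul, Equiv.Perm.mul_apply, Equiv.Perm.mul_apply, hyl, map_inv, Equiv.Perm.inv_def,
      show (π z).symm l = root (lab.get 8 l') by rw [Equiv.symm_apply_eq, ← he, hzl], hzl']
  -- the set of labels of the block
  let S : ℕ := ∑ c ∈ (B.image fun l : Fin n => lab.get 8 (l : ℕ)), 2 ^ c
  have hS : ∀ c, S.testBit c = true ↔ c ∈ B.image fun l : Fin n => lab.get 8 (l : ℕ) := by
    intro c
    have key : ∀ T : Finset ℕ, (∑ d ∈ T, 2 ^ d).testBit c = true ↔ c ∈ T := by
      intro T
      conv_rhs => rw [← Finset.toFinset_bitIndices_sum_two_pow T]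
      rw [List.mem_toFinset, Nat.mem_bitIndices]
    exact key _
  have hmem : ∀ l : Fin n, S.testBit (lab.get 8 l) = true ↔ l ∈ B := by
    intro l
    rw [hS, Finset.mem_image]
    exact ⟨fun ⟨l', h1, h2⟩ => hclass l' l h2 h1, fun h => ⟨l, h, rfl⟩⟩
  have hcard : cntLab lab S n = B.card := by
    rw [cntLab_eq, ← Fin.sum_univ_eq_sum_range (fun l => if S.testBit (lab.get 8 l) then 1 else 0)]
    rw [← Finset.card_filter]
    congr 1
    ext l
    simp [hmem l]
  have hodd : S % 2 = 1 := by
    have h0 : S.testBit 0 = true := (hS 0).2 (Finset.mem_image.2 ⟨x, hBx, hx⟩)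
    rwa [Nat.testBit_zero, decide_eq_true_eq] at h0
  have hlt : S < 2 ^ (m + 1) := Nat.lt_pow_two_of_testBit _ fun c hc => Bool.eq_false_iff.2 fun h => by
    obtain ⟨l, -, rfl⟩ := Finset.mem_image.1 ((hS c).1 h)
    have := (hreach l).1; omega
  have h := allFrom_spec _ _ _ hu (S / 2) (Nat.zero_le _) (by rw [pow_succ] at hlt; omega)
  simp only [strict_eq] at h
  rw [show 2 * (S / 2) + 1 = S by omega, hcard] at h
  simp only [Bool.or_eq_true, Bool.not_eq_true'] at h
  -- the block has the index as size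
  have hMcard : Nat.card M = B.card * Nat.card H := by
    have hBc : Nat.card (B : Finset (Fin n)) = B.card := Nat.card_eq_finsetCard B
    choose r hr using fun l : B => (Finset.mem_filter.1 l.2).2
    have hb : Function.Bijective fun p : B × H => (⟨r p.1 * p.2, M.mul_mem (hr p.1).1 (hM p.2.2)⟩ : M) := by
      constructor
      · intro p q h
        have h' := congrArg Subtype.val h
        have hv : p.1 = q.1 := by
          have := congrArg (fun z => π z x) h'
          simp only [map_mul, Equiv.Perm.mul_apply] at this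
          rw [(hH _).1 p.2.2, (hH _).1 q.2.2, (hr _).2, (hr _).2] at this
          exact Subtype.ext this
        simp only [hv] at h'
        exact Prod.ext hv (Subtype.ext (mul_left_cancel h'))
      · intro z
        have hz : π (z : G) x ∈ B := Finset.mem_filter.2 ⟨Finset.mem_univ _, z, z.2, rfl⟩
        refine ⟨(⟨_, hz⟩, ⟨(r ⟨_, hz⟩)⁻¹ * z, (hH _).2 ?_⟩), Subtype.ext (by simp)⟩
        rw [map_mul, map_inv, Equiv.Perm.mul_apply, Equiv.Perm.inv_def, Equiv.symm_apply_eq, (hr _).2]
    rw [← Nat.card_eq_of_bijective _ hb, Nat.card_prod, hBc]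
  have hdvd : B.card ∣ n := by
    have h1 := M.card_subgroup_dvd_card
    rw [hMcard, hG] at h1
    exact Nat.dvd_of_mul_dvd_mul_right Nat.card_pos h1
  rcases h with (h | h) | h
  · left
    exact (Subgroup.eq_of_le_of_card_ge hM (by rw [hMcard, Nat.eq_of_beq_eq_true h, one_mul])).symm
  · right
    exact Subgroup.eq_top_of_card_eq _ (by rw [hMcard, Nat.eq_of_beq_eq_true h, hG])
  · rw [Nat.mod_eq_zero_of_dvd hdvd] at h  
    simp at h

end Blocks

theorem piL_transitive : ∀ l l' : Fin 4060, ∃ z, piL z l' = l := by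
  intro l l'
  refine ⟨coverRep (repOf l) * (coverRep (repOf l'))⁻¹, ?_⟩
  have e : ∀ m : Fin 4060, piL (coverRep (repOf m)) (lineOf (bPt 0)) = m := fun m => by
    rw [piL_lineOf, coverRep_base, lineOf_repOf]
  rw [map_mul, Equiv.Perm.mul_apply, map_inv, Equiv.Perm.inv_def,
    show (piL (coverRep (repOf l'))).symm l' = lineOf (bPt 0) by rw [Equiv.symm_apply_eq, e], e]

/-- The stabiliser of the first line. -/
noncomputable def lineStab : Subgroup fourRu where
  carrier := {z | piL z (lineOf (bPt 0)) = lineOf (bPt 0)}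
  one_mem' := by simp
  mul_mem' := fun {a b} ha hb => by
    simp only [Set.mem_ofPred_eq] at *
    rw [map_mul, Equiv.Perm.mul_apply, hb, ha]
  inv_mem' := fun {a} ha => by
    simp only [Set.mem_ofPred_eq] at *
    rw [map_inv, Equiv.Perm.inv_def, Equiv.symm_apply_eq, ha]

theorem card_lineStab : Nat.card lineStab = 143769600 := by
  have h := card_eq_mul_stab piL piL_transitive (lineOf (bPt 0)) lineStab fun z => Iff.rfl
  rw [card_fourRu] at h
  omega

theorem tits_le_lineStab : titsGrp ≤ lineStab := fun z hz => by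
  show piL z (lineOf (bPt 0)) = _
  rw [piL_lineOf, titsGrp_fix hz]

theorem lineStab_maximal (M : Subgroup fourRu) (hM : lineStab ≤ M) : M = lineStab ∨ M = ⊤ := by
  refine maximal_of_labels piL piL_transitive (lineOf (bPt 0)) lineStab (fun z => Iff.rfl) lineLab
    (fun c => ⟨lineRoots.getD c 0 % 4060, Nat.mod_lt _ (by norm_num)⟩) 2 (fun l => ?_) ?_ lineUnion_checks.1 M hM
  · have h := allFrom_spec _ _ _ lineLab_checks l (Nat.zero_le _) (by have := l.2; omega)
    unfold lineLabOK at h
    simp only [strict_eq, Bool.and_eq_true, Nat.blt_eq] at h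
    obtain ⟨⟨hc, hlet⟩, he⟩ := h
    obtain ⟨z, hz, hzk⟩ := exists_word piV realised_tits hlet
    refine ⟨hc, z, tits_le_lineStab hz, ?_⟩
    set r : Fin 4060 := ⟨lineRoots.getD (lineLab.get 8 l) 0 % 4060, Nat.mod_lt _ (by norm_num)⟩ with hr
    rw [← lineOf_repOf r, piL_lineOf]
    refine Fin.ext ?_
    have hmod : lineRoots.getD (lineLab.get 8 l) 0 % 4060 = lineRoots.getD (lineLab.get 8 l) 0 := by
      generalize lineLab.get 8 l = c at hc
      interval_cases c <;> rfl
    rw [val_lineOf, hzk, val_repOf, show ((r : Fin 4060) : ℕ) = _ from hmod]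
    exact Nat.eq_of_beq_eq_true he
  · rw [val_lineOf, bPt_val.1, Nat.eq_of_beq_eq_true fixed_checks.2.2.2.2.1]
    exact Nat.eq_of_beq_eq_true lineUnion_checks.2

theorem piL_ker {z : fourRu} (h : ∀ l, piL z l = l) : z ∈ scalars := by
  obtain ⟨s, hs, hsz⟩ := exists_scalar_fix (h (lineOf (bPt 0)))
  have hl : ∀ l, piL (s⁻¹ * z) l = l := fun l => by
    have hsl : piL s l = l := by
      obtain ⟨k, rfl⟩ := hs
      rw [map_zpow]
      refine Equiv.Perm.zpow_apply_eq_self_of_apply_eq_self ?_ k
      rw [← lineOf_repOf l, piL_lineOf, piV_eI, lineOf_jI]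
    rw [map_mul, map_inv, Equiv.Perm.mul_apply, h, Equiv.Perm.inv_def, Equiv.symm_apply_eq, hsl]
  have hfix : ∀ k, k ≤ 6 → Fixes (s⁻¹ * z) k := by
    intro k
    induction k with
    | zero => exact fun _ i hi => absurd hi (Nat.not_lt_zero i)
    | succ k ih =>
      intro hk
      have hf := ih (by omega)
      refine fixes_succ hf ?_
      rcases k with _ | k
      · exact hsz
      set j := piV (s⁻¹ * z) (bPt (k + 1)) with hj
      obtain ⟨a, ha, haj⟩ := eq_rep j
      obtain ⟨b, hb, hbj⟩ := eq_rep (bPt (k + 1))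
      have e : lineOf j = lineOf (bPt (k + 1)) := by rw [hj, ← piL_lineOf, hl]
      have hp := profKey_piV (c := k + 1) (by omega) hf (bPt (k + 1))
      rw [← hj] at hp
      have hc := allFrom_spec _ _ _ phase_checks (k + 1) (by omega) (by omega)
      unfold phaseOK at hc
      simp only [strict_eq, Bool.and_eq_true, Bool.not_eq_true'] at hc
      have hv : baseList.getD (k + 1) 0 = (bPt (k + 1) : ℕ) := by
        have hk5 : k < 5 := by omega
        have : baseList.getD (k + 1) 0 < 16240 := by interval_cases k <;> decide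
        exact (Nat.mod_eq_of_lt this).symm
      rw [hv, ← val_jI, ← val_jI, ← val_jI] at hc
      -- `j` is a multiple of the base vector
      have hmul : ∃ c < 4, j = (jI^[c]) (bPt (k + 1)) := by
        have h4 : ∀ y, (jI^[4]) y = y := fun y => by rw [← eI_pow_apply, eI_pow_four, map_one]; rfl
        refine ⟨(a + (4 - b)) % 4, Nat.mod_lt _ (by norm_num), ?_⟩
        have hper : ∀ q y, (jI^[q]) y = (jI^[q % 4]) y := fun q y => by
          conv_lhs => rw [← Nat.mod_add_div q 4, Function.iterate_add_apply, Function.iterate_mul]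
          rw [Function.iterate_fixed (h4 y)]
        rw [← hper, haj, e]
        conv_rhs => rw [hbj]
        rw [← Function.iterate_add_apply, hper (a + (4 - b) + b),
          show (a + (4 - b) + b) % 4 = a % 4 by omega, ← hper]
      obtain ⟨c, hc4, hcj⟩ := hmul
      interval_cases c
      · exact hcj
      · rw [hcj, Function.iterate_one] at hp
        rw [hp] at hc; simp at hc
      · rw [hcj, Function.iterate_succ_apply', Function.iterate_one] at hp
        rw [hp] at hc; simp at hc
      · rw [hcj, Function.iterate_succ_apply', Function.iterate_succ_apply', Function.iterate_one] at hp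
        rw [hp] at hc; simp at hc
  have := eq_one_of_fixes (hfix 6 le_rfl)
  rw [inv_mul_eq_one] at this
  exact this ▸ hs

theorem o1_spec (i : Fin 1755) : o1Pts.get 20 i < 4060 ∧ o1Pos.get 20 (o1Pts.get 20 i) = i ∧
    ∀ g < 4, act aCols g i < 1755 ∧
      lineTab.get 20 (act titsTab g (repTab.get 20 (o1Pts.get 20 i))) = o1Pts.get 20 (act aCols g i) := by
  have h := allFrom_spec _ _ _ o1_checks i (Nat.zero_le _) (by have := i.2; omega)
  unfold o1OK at h
  simp only [strict_eq, Bool.and_eq_true, Nat.blt_eq] at h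
  refine ⟨h.1.1, Nat.eq_of_beq_eq_true h.1.2, fun g hg => ?_⟩
  have hh := allFrom_spec _ _ _ h.2 g (Nat.zero_le _) (by omega)
  simp only [Bool.and_eq_true, Nat.blt_eq] at hh
  exact ⟨hh.1, Nat.eq_of_beq_eq_true hh.2⟩

/-- A line of the small orbit. -/
noncomputable def o1Line (i : Fin 1755) : Fin 4060 := ⟨o1Pts.get 20 i, (o1_spec i).1⟩

theorem o1Line_injective : Function.Injective o1Line := fun a b h => Fin.ext (by
  rw [← (o1_spec a).2.1, ← (o1_spec b).2.1, show o1Pts.get 20 a = o1Pts.get 20 b from congrArg Fin.val h])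

theorem o1_invariant {z : fourRu} (hz : z ∈ titsGrp) : ∀ i, ∃ k, piL z (o1Line i) = o1Line k := by
  induction hz using Subgroup.closure_induction with
  | mem g hg =>
    intro i
    rcases hg with rfl | rfl
    · refine ⟨⟨_, ((o1_spec i).2.2 0 (by norm_num)).1⟩, ?_⟩
      rw [← lineOf_repOf (o1Line i), piL_lineOf]
      refine Fin.ext ?_
      rw [val_lineOf, acts_eT, val_repOf]
      show _ = o1Pts.get 20 (act aCols 0 i)
      rw [← ((o1_spec i).2.2 0 (by norm_num)).2, act_get titsTab (by decide)]; rfl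
    · refine ⟨⟨_, ((o1_spec i).2.2 1 (by norm_num)).1⟩, ?_⟩
      rw [← lineOf_repOf (o1Line i), piL_lineOf]
      refine Fin.ext ?_
      rw [val_lineOf, acts_eT2, val_repOf]
      show _ = o1Pts.get 20 (act aCols 1 i)
      rw [← ((o1_spec i).2.2 1 (by norm_num)).2, act_get titsTab (by decide)]; rfl
  | one => exact fun i => ⟨i, by rw [map_one]; rfl⟩
  | mul a b _ _ ha hb =>
    intro i
    obtain ⟨k, hk⟩ := hb i
    obtain ⟨l, hl⟩ := ha k
    exact ⟨l, by rw [map_mul, Equiv.Perm.mul_apply, hk, hl]⟩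
  | inv a _ ha =>
    intro i
    choose f hf using ha
    have hinj : Function.Injective f := fun p q h => o1Line_injective ((piL a).injective (by rw [hf, hf, h]))
    obtain ⟨k, hk⟩ := (Finite.injective_iff_surjective.1 hinj) i
    exact ⟨k, by rw [map_inv, Equiv.Perm.inv_def, Equiv.symm_apply_eq, hf, hk]⟩

/-- Image on the small orbit. -/
noncomputable def o1Img (z : titsGrp) (i : Fin 1755) : Fin 1755 := (o1_invariant z.2 i).choose

theorem o1Img_spec (z : titsGrp) (i : Fin 1755) : piL (z : fourRu) (o1Line i) = o1Line (o1Img z i) :=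
  (o1_invariant z.2 i).choose_spec

theorem o1Img_mul (a b : titsGrp) (i : Fin 1755) : o1Img (a * b) i = o1Img a (o1Img b i) := o1Line_injective (by
  rw [← o1Img_spec, Subgroup.coe_mul, map_mul, Equiv.Perm.mul_apply, o1Img_spec, o1Img_spec])

theorem o1Img_one (i : Fin 1755) : o1Img 1 i = i := o1Line_injective (by
  rw [← o1Img_spec, Subgroup.coe_one, map_one]; rfl)

/-- The action of the Tits group on the small orbit. -/
noncomputable def piO : titsGrp →* Equiv.Perm (Fin 1755) where
  toFun z :=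
    { toFun := o1Img z
      invFun := o1Img z⁻¹
      left_inv := fun i => by rw [← o1Img_mul, inv_mul_cancel, o1Img_one]
      right_inv := fun i => by rw [← o1Img_mul, mul_inv_cancel, o1Img_one] }
  map_one' := Equiv.ext o1Img_one
  map_mul' a b := Equiv.ext (o1Img_mul a b)

theorem realised_o1 : Realised piO ⊤ aCols := by
  intro j hj
  have hj : j < 4 := hj
  obtain ⟨z, hz, hzk⟩ := realised_tits j hj
  refine ⟨⟨z, hz⟩, trivial, fun i => ?_⟩
  have e : o1Img ⟨z, hz⟩ i = ⟨_, ((o1_spec i).2.2 j hj).1⟩ := o1Line_injective (by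
    rw [← o1Img_spec, ← lineOf_repOf (o1Line i), piL_lineOf]
    refine Fin.ext ?_
    rw [val_lineOf, hzk, val_repOf]
    exact ((o1_spec i).2.2 j hj).2)
  exact congrArg Fin.val e

theorem card_ge_o1 {G : Type*} [Group G] (π : G →* Equiv.Perm (Fin 1755)) (K : Subgroup G) [Finite K]
    (hK : Realised π K aCols) : 17971200 ≤ Nat.card K := by
  have s0 := base_step π hK o1Cols0 o1Words0 o1Lev0P o1Lev0Par o1Lev0Pos 0 1755 (by norm_num) (by decide +kernel)
    (fun i hi => allFrom_spec _ _ _ chain_zero.1 i (Nat.zero_le _) (by omega)) (by decide +kernel) (by decide +kernel)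
    (fun k hk => allFrom_spec _ _ _ chain_zero.2.1 k (Nat.zero_le _) (by omega)) chain_zero.2.2
  refine le_trans (by norm_num) (le_of_step π s0 (c := 10240) fun H _ hH => ?_)
  have s1 := base_step π hH o1Cols1 o1Words1 o1Lev1P o1Lev1Par o1Lev1Pos 487 1024 (by norm_num) (by decide +kernel)
    (fun i hi => allFrom_spec _ _ _ chain_one.1 i (Nat.zero_le _) (by omega)) (by decide +kernel) (by decide +kernel)
    (fun k hk => allFrom_spec _ _ _ chain_one.2.1 k (Nat.zero_le _) (by omega)) chain_one.2.2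
  refine le_trans (by norm_num) (le_of_step π s1 (c := 10) fun H' _ hH' => ?_)
  have s2 := base_step π hH' [] [] o1Lev2P o1Lev2Par o1Lev2Pos 1213 10 (by norm_num) (by decide +kernel)
    (fun i hi => allFrom_spec _ _ _ chain_two.1 i (Nat.zero_le _) (by omega)) (by decide +kernel) (by decide +kernel)
    (fun k hk => allFrom_spec _ _ _ chain_two.2.1 k (Nat.zero_le _) (by omega)) chain_two.2.2
  exact le_trans (by norm_num) (le_of_step π s2 (c := 1) fun H'' _ _ => one_le_card H'')

theorem piO_injective : Function.Injective piO := by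
  refine injective_of_card_range piO ?_
  rw [card_titsGrp]
  refine le_trans (card_ge_o1 piO.range.subtype ⊤ fun j hj => ?_) (le_of_eq Subgroup.card_top)
  obtain ⟨z, -, hz⟩ := realised_o1 j hj
  exact ⟨piO.rangeRestrict z, trivial, hz⟩

theorem piO_transitive : ∀ l x : Fin 1755, ∃ z, piO z x = l := by
  have hex : ∀ l : Fin 1755, ∃ z, piO z ⟨0, by norm_num⟩ = l := by
    have s0 : ∀ i < 1755, stepOK aCols o1Lev0P o1Lev0Par o1Lev0Pos aCols.length i = true :=
      fun i hi => allFrom_spec _ _ _ chain_zero.1 i (Nat.zero_le _) (by omega)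
    have hP : o1Lev0P.get 20 0 = 0 := by decide +kernel
    have hreach : ∀ i < 1755, ∃ z, ((piO z ⟨0, by norm_num⟩ : Fin 1755) : ℕ) = o1Lev0P.get 20 i := by
      intro i
      induction i using Nat.strong_induction_on with
      | _ i ih =>
        intro hi
        have h := s0 i hi
        unfold stepOK at h
        simp only [strict_eq, Bool.and_eq_true, Bool.or_eq_true, Nat.blt_eq] at h
        rcases h.2 with h0 | ⟨⟨hj, hx⟩, he⟩
        · exact ⟨1, by rw [Nat.eq_of_beq_eq_true h0, hP, map_one]; rfl⟩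
        · obtain ⟨z, hz⟩ := ih _ hj (by omega)
          obtain ⟨y, -, hy⟩ := realised_o1 _ hx
          exact ⟨y * z, by rw [map_mul, Equiv.Perm.mul_apply, hy, hz, Nat.eq_of_beq_eq_true he]⟩
    have hsurj : Function.Surjective fun i : Fin 1755 => piO ((hreach i i.2).choose) ⟨0, by norm_num⟩ := by
      refine Finite.injective_iff_surjective.1 fun a b h => ?_
      have ha := (hreach a a.2).choose_spec
      have hb := (hreach b b.2).choose_spec
      have e : o1Lev0P.get 20 a = o1Lev0P.get 20 b := ha.symm.trans ((congrArg Fin.val h).trans hb)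
      have sa := s0 a a.2
      have sb := s0 b b.2
      unfold stepOK at sa sb
      simp only [strict_eq, Bool.and_eq_true] at sa sb
      exact Fin.ext (by rw [← Nat.eq_of_beq_eq_true sa.1, e, Nat.eq_of_beq_eq_true sb.1])
    intro l
    obtain ⟨i, hi⟩ := hsurj l
    exact ⟨_, hi⟩
  intro l x
  obtain ⟨a, ha⟩ := hex x
  obtain ⟨b, hb⟩ := hex l
  refine ⟨b * a⁻¹, ?_⟩
  rw [map_mul, map_inv, Equiv.Perm.mul_apply, Equiv.Perm.inv_def,
    show (piO a).symm x = ⟨0, by norm_num⟩ by rw [Equiv.symm_apply_eq, ha], hb]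

/-- A point stabiliser on the small orbit. -/
noncomputable def o1Stab : Subgroup titsGrp where
  carrier := {z | piO z ⟨0, by norm_num⟩ = ⟨0, by norm_num⟩}
  one_mem' := by simp
  mul_mem' := fun {a b} ha hb => by
    simp only [Set.mem_ofPred_eq] at *
    rw [map_mul, Equiv.Perm.mul_apply, hb, ha]
  inv_mem' := fun {a} ha => by
    simp only [Set.mem_ofPred_eq] at *
    rw [map_inv, Equiv.Perm.inv_def, Equiv.symm_apply_eq, ha]

theorem realised_o1Stab : Realised piO o1Stab o1Cols0 := by
  intro j hj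
  have hlen : o1Words0.length = o1Cols0.length := by decide +kernel
  have hw : ∀ x ∈ o1Words0.getD j [], x < aCols.length := by
    have h : (o1Words0.all fun l => l.all fun x => decide (x < aCols.length)) = true := by decide +kernel
    simp only [List.all_eq_true, decide_eq_true_eq] at h
    rw [List.getD_eq_getElem _ _ (hlen ▸ hj)]
    exact h _ (List.getElem_mem _)
  obtain ⟨z, -, hz⟩ := realised_scan piO realised_o1 _ hw
  refine ⟨z, Fin.ext ?_, fun k => ?_⟩
  · rw [hz, List.getD_eq_getElem _ _ (hlen ▸ hj)]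
    exact fixesAll_spec _ _ _ chain_zero.2.2 _ (List.getElem_mem _)
  · rw [hz]
    exact Nat.eq_of_beq_eq_true (allFrom_spec _ _ _
      (allFrom_spec _ _ _ chain_zero.2.1 k (Nat.zero_le _) (by have := k.2; omega)) j (Nat.zero_le _) (by omega))

theorem o1Stab_maximal (M : Subgroup titsGrp) (hM : o1Stab ≤ M) : M = o1Stab ∨ M = ⊤ := by
  refine maximal_of_labels piO piO_transitive ⟨0, by norm_num⟩ o1Stab (fun z => Iff.rfl) subLab
    (fun c => ⟨subRoots.getD c 0 % 1755, Nat.mod_lt _ (by norm_num)⟩) 4 (fun l => ?_) ?_ subUnion_checks.1 M hM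
  · have h := allFrom_spec _ _ _ subLab_checks l (Nat.zero_le _) (by have := l.2; omega)
    unfold subLabOK at h
    simp only [strict_eq, Bool.and_eq_true, Nat.blt_eq] at h
    obtain ⟨⟨hc, hlet⟩, he⟩ := h
    obtain ⟨z, hz, hzk⟩ := exists_word piO realised_o1Stab hlet
    refine ⟨hc, z, hz, Fin.ext ?_⟩
    have hmod : subRoots.getD (subLab.get 8 l) 0 % 1755 = subRoots.getD (subLab.get 8 l) 0 := by
      generalize subLab.get 8 l = c at hc
      interval_cases c <;> rfl
    rw [hzk]
    show scanC o1Cols0 _ (subRoots.getD (subLab.get 8 l) 0 % 1755) = _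
    rw [hmod]
    exact Nat.eq_of_beq_eq_true he
  · exact Nat.eq_of_beq_eq_true subUnion_checks.2

theorem eC_mem : eC ∈ titsGrp := by
  have h := conj_sift
  unfold conjSiftOK at h
  simp only [strict_eq, Bool.and_eq_true] at h
  obtain ⟨⟨⟨⟨h0, h1⟩, h2⟩, h3⟩, h4⟩ := h
  refine mem_titsGrp (Fin.ext ?_) ⟨180, by norm_num⟩ (x := ⟨8454, by norm_num⟩) (Fin.ext ?_) (Fin.ext ?_) (Fin.ext ?_)
  · rw [acts_eC, bPt_val.1]; exact Nat.eq_of_beq_eq_true h0
  · rw [acts_eC, titsRep_apply, bPt_val.2.1, (titsTrans_spec (show 180 < 2304 by norm_num)).2.1]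
    exact Nat.eq_of_beq_eq_true h1
  · rw [acts_eC, titsRep_apply, bPt_val.2.2.1]; exact Nat.eq_of_beq_eq_true h2
  · rw [acts_eC, titsRep_apply, bPt_val.2.2.2.1,
      show ((phiF ⟨8454, by norm_num⟩ : Fin 16240) : ℕ) = 891 by
        show phiTab.get 20 8454 % 16240 = 891
        rw [Nat.eq_of_beq_eq_true h4]]
    exact Nat.eq_of_beq_eq_true h3

/-- A normal subgroup is trivial or transitive when the point stabiliser is maximal and core free. -/
theorem sup_eq_top {G : Type*} [Group G] {n : ℕ} (π : G →* Equiv.Perm (Fin n)) (x : Fin n) (H N : Subgroup G)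
    [N.Normal] (hH : ∀ z, z ∈ H ↔ π z x = x) (htr : ∀ l, ∃ z, π z x = l)
    (hmax : ∀ M, H ≤ M → M = H ∨ M = ⊤) (hN : ∃ z ∈ N, ∃ l, π z l ≠ l) : H ⊔ N = ⊤ := by
  refine (hmax _ le_sup_left).resolve_left fun h => ?_
  obtain ⟨z, hz, l, hzl⟩ := hN
  obtain ⟨y, rfl⟩ := htr l
  refine hzl ?_
  have h1 : y⁻¹ * z * y ∈ H := h ▸ le_sup_right (a := H) (by simpa using (‹N.Normal›.conj_mem z hz y⁻¹))
  have h2 := (hH _).1 h1
  rw [map_mul, map_mul, Equiv.Perm.mul_apply, Equiv.Perm.mul_apply, map_inv, Equiv.Perm.inv_def,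
    Equiv.symm_apply_eq] at h2
  exact h2

theorem orderOf_acts {f : fourRu} {T : Tr} (hf : Acts f T) (p : ℕ) (hp : p.Prime)
    (hper : allFrom (periodOK T p) 16240 0 = true) (x : Fin 16240) (hx : Nat.beq (T.get 20 x) x = false) :
    orderOf f = p := by
  have : Fact p.Prime := ⟨hp⟩
  refine orderOf_eq_prime (piV_injective (Equiv.ext fun j => Fin.ext ?_)) fun h => ?_
  · rw [map_pow, map_one, Equiv.Perm.one_apply]
    have hit : ∀ k : ℕ, (((piV f) ^ k) j : Fin 16240).val =
        Nat.rec (motive := fun _ => ℕ) (j : ℕ) (fun _ ih => T.get 20 ih) k := by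
      intro k
      induction k with
      | zero => rfl
      | succ k ih => rw [pow_succ', Equiv.Perm.mul_apply, hf, ih]
    rw [hit]
    exact Nat.eq_of_beq_eq_true (allFrom_spec _ _ _ hper j (Nat.zero_le _) (by have := j.2; omega))
  · rw [← hf x, h, map_one, Equiv.Perm.one_apply] at hx
    simp at hx

theorem orderOf_eT : orderOf eT = 13 :=
  orderOf_acts acts_eT 13 (by norm_num) periods.1 (bPt 1) (by rw [bPt_val.2.1]; exact moves.1)

theorem orderOf_eW : orderOf eW = 29 :=
  orderOf_acts acts_eW 29 (by norm_num) periods.2 (bPt 0) (by rw [bPt_val.1]; exact moves.2)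

theorem isSimple_titsGrp : IsSimpleGroup titsGrp := by
  have : Nontrivial titsGrp := Finite.one_lt_card_iff_nontrivial.1 (by rw [card_titsGrp]; norm_num)
  refine { eq_bot_or_eq_top_of_normal := fun N hN => ?_ }
  by_cases hb : ∀ z ∈ N, ∀ l, piO z l = l
  · left
    exact (Subgroup.eq_bot_iff_forall N).2 fun z hz => piO_injective (Equiv.ext fun l => by rw [hb z hz, map_one]; rfl)
  right
  push Not at hb
  have hsup := sup_eq_top piO ⟨0, by norm_num⟩ o1Stab N (fun z => Iff.rfl) (fun l => piO_transitive l _)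
    o1Stab_maximal hb
  have hidx := index_dvd_card_of_sup_eq_top o1Stab N hsup
  have hc := card_eq_mul_stab piO piO_transitive ⟨0, by norm_num⟩ o1Stab fun z => Iff.rfl
  have h13 : 13 ∣ Nat.card N := by
    refine Nat.dvd_trans ?_ hidx
    have hi := Subgroup.card_mul_index o1Stab
    rw [hc, mul_comm 1755] at hi
    rw [Nat.eq_of_mul_eq_mul_left Nat.card_pos hi]
    norm_num
  have : Fact (Nat.Prime 13) := ⟨by norm_num⟩
  have hT : (⟨eT, Subgroup.subset_closure (by simp)⟩ : titsGrp) ∈ N :=
    mem_of_prime_dvd N 13 h13 (by rw [card_titsGrp]; norm_num) _ (by rw [← Subgroup.orderOf_coe]; exact orderOf_eT)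
  refine (Subgroup.eq_top_iff' N).2 fun z => ?_
  obtain ⟨z, hz⟩ := z
  induction hz using Subgroup.closure_induction with
  | mem g hg =>
    rcases hg with rfl | rfl
    · exact hT
    · exact hN.conj_mem _ hT ⟨eC, eC_mem⟩
  | one => exact N.one_mem
  | mul a b ha hb iha ihb => exact N.mul_mem iha ihb
  | inv a ha iha => exact N.inv_mem iha

end CfsgLib.RuAut
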