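import Cfsg.Agent.Lib.RuAut.Act
import Cfsg.Agent.Lib.RuAut.ProfileChecks

/-! Six base vectors determine an automorphism. -/

set_option autoImplicit false
set_option maxRecDepth 100000

namespace CfsgLib.RuAut

open Cfsg Cfsg.Spor CfsgLib.RuLat CfsgLib.CosetEnum

attribute [local irreducible] Tr.get

/-- A base vector. -/
def bPt (k : ℕ) : Fin 16240 := ⟨baseList.getD k 0 % 16240, Nat.mod_lt _ (by norm_num)⟩

theorem bPt_val : ((bPt 0 : Fin 16240) : ℕ) = 0 ∧ ((bPt 1 : Fin 16240) : ℕ) = 112 ∧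
    ((bPt 2 : Fin 16240) : ℕ) = 116 ∧ ((bPt 3 : Fin 16240) : ℕ) = 7553 ∧ ((bPt 4 : Fin 16240) : ℕ) = 4 ∧
    ((bPt 5 : Fin 16240) : ℕ) = 129 := by
  decide

/-- Fixes the first base vectors. -/
def Fixes (f : fourRu) (c : ℕ) : Prop := ∀ k < c, piV f (bPt k) = bPt k

theorem sum_slots_lt : ∀ (n : ℕ) (c : ℕ → ℕ), (∀ q < n, c q < 1024) → ∑ q ∈ Finset.range n, c q * 1024 ^ q < 1024 ^ n
  | 0, c, _ => by simp
  | n + 1, c, h => by
    rw [Finset.sum_range_succ, pow_succ']
    have := sum_slots_lt n c fun q hq => h q (by omega)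
    have := Nat.mul_le_mul_right (1024 ^ n) (Nat.le_of_lt_succ (h n (by omega)))
    omega

theorem codeP_lt (it : ℕ) : codeP it < 1024 ^ 56 := by
  rw [codeP, pp_congr (fun p _ => pow_eq_sum) (fun p _ => zf_sum p), pp_sum 1024 ind fun _ => zf]
  exact sum_slots_lt 56 _ fun q _ => lt_of_le_of_lt (pp_le (ind_le q) (fun _ => Nat.zero_le _) 16 it) (by norm_num)

theorem codeN_lt (it : ℕ) : codeN it < 1024 ^ 56 := by
  rw [codeN, pp_congr (fun p _ => zf_sum p) (fun p _ => pow_eq_sum), pp_sum 1024 (fun _ => zf) ind]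
  exact sum_slots_lt 56 _ fun q _ => lt_of_le_of_lt (pp_le (fun _ => Nat.zero_le _) (ind_le q) 16 it) (by norm_num)

theorem dig_high {c p : ℕ} (hc : c < 1024 ^ 56) (hp : 56 ≤ p) : dig c p = 0 := by
  rw [dig_eq, Nat.div_eq_of_lt (lt_of_lt_of_le hc (Nat.pow_le_pow_right (by norm_num) hp))]

theorem pp_const (k : ℕ) : ∀ n it, pp (fun _ => k) (fun _ => k) n it = n * k
  | 0, it => by simp [pp_zero]
  | n + 1, it => by
    rw [pp_succ, pp_const k n, add_one_mul, add_comm]
    cases Nat.beq ((it >>> 6) &&& 1) 0 <;> rfl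

theorem sum_prefix (a : ℕ → ℕ) (ha : ∀ q, a q < 1024) (c : ℕ) : ∀ n, c ≤ n →
    (∑ q ∈ Finset.range n, a q * 1024 ^ q) % 1024 ^ c = ∑ q ∈ Finset.range c, a q * 1024 ^ q := by
  have hlt : ∀ m, ∑ q ∈ Finset.range m, a q * 1024 ^ q < 1024 ^ m := by
    intro m
    induction m with
    | zero => simp
    | succ m ih =>
      rw [Finset.sum_range_succ, pow_succ']
      have := Nat.mul_le_mul_right (1024 ^ m) (Nat.le_of_lt_succ (ha m))
      omega
  intro n hn
  induction n, hn using Nat.le_induction with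
  | base => exact Nat.mod_eq_of_lt (hlt c)
  | succ n hn ih =>
    obtain ⟨d, rfl⟩ := Nat.exists_eq_add_of_le hn
    rw [Finset.sum_range_succ, pow_add, show a (c + d) * (1024 ^ c * 1024 ^ d) = 1024 ^ c * (a (c + d) * 1024 ^ d) by ring,
      Nat.add_mul_mod_self_left]
    exact ih

theorem sum_digits : ∀ (n X : ℕ), X < 1024 ^ n → X = ∑ q ∈ Finset.range n, X / 1024 ^ q % 1024 * 1024 ^ q
  | 0, X, h => by simpa using h
  | n + 1, X, h => by
    have hlt : X / 1024 < 1024 ^ n := by rw [Nat.div_lt_iff_lt_mul (by norm_num), ← pow_succ]; exact h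
    have hr := sum_digits n (X / 1024) hlt
    rw [Finset.sum_range_succ']
    simp only [pow_zero, Nat.div_one, mul_one, pow_succ']
    have e : ∀ q, X / (1024 * 1024 ^ q) % 1024 * (1024 * 1024 ^ q) =
        1024 * (X / 1024 / 1024 ^ q % 1024 * 1024 ^ q) := fun q => by
      rw [Nat.div_div_eq_div_mul]; ring
    rw [Finset.sum_congr rfl fun q _ => e q, ← Finset.mul_sum, ← hr]
    omega

/-- The profile in slots. -/
theorem profKey_eq (j : ℕ) {c : ℕ} (hc : c ≤ 12) :
    profKey j c = ∑ s ∈ Finset.range c, pp (fun p => dig (contrP.get 120 p) s) (fun p => dig (contrN.get 120 p) s) 16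
      (itemOf j) * 1024 ^ s := by
  have hP : ∀ (T : Tr) (p : ℕ), T.get 120 p = ∑ s ∈ Finset.range 12, dig (T.get 120 p) s * 1024 ^ s := by
    intro T p
    conv_lhs => rw [sum_digits 12 (T.get 120 p) (lt_of_lt_of_le (get_lt 120 T p) (by norm_num))]
    exact Finset.sum_congr rfl fun s _ => by rw [dig_eq]
  have hb : ∀ (s : ℕ), pp (fun p => dig (contrP.get 120 p) s) (fun p => dig (contrN.get 120 p) s) 16 (itemOf j) < 1024
      ∨ 12 ≤ s := by
    intro s
    by_cases hs : s < 12
    · left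
      have hle : ∀ p < 64, dig (contrP.get 120 p) s + dig (contrN.get 120 p) s = 8 := by
        intro p hp
        have h := allFrom_spec _ _ _ (allFrom_spec _ _ _ contr_checks p (Nat.zero_le _) (by omega)) s (Nat.zero_le _)
          (by omega)
        simp only [strict_eq, Bool.and_eq_true, Nat.ble_eq] at h
        rw [Nat.eq_of_beq_eq_true h.1.2, Nat.eq_of_beq_eq_true h.2]
        omega
      have h2 := pp_add (fun p => dig (contrP.get 120 p) s) (fun p => dig (contrN.get 120 p) s)
        (fun p => dig (contrN.get 120 p) s) (fun p => dig (contrP.get 120 p) s) 16 (itemOf j)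
      rw [pp_congr (f' := fun _ => 8) (g' := fun _ => 8) hle (fun p hp => by rw [add_comm]; exact hle p hp),
        pp_const] at h2
      omega
    · exact Or.inr (by omega)
  unfold profKey
  simp only [strict_eq]
  rw [pp_congr (fun p _ => hP contrP p) (fun p _ => hP contrN p), pp_sum 1024, show (2 : ℕ) ^ (10 * c) = 1024 ^ c by
    rw [pow_mul]; norm_num]
  have hb' : ∀ q, (if q < 12 then pp (fun p => dig (contrP.get 120 p) q) (fun p => dig (contrN.get 120 p) q) 16
      (itemOf j) else 0) < 1024 := fun q => by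
    split
    · rename_i h; exact (hb q).resolve_right (by omega)
    · norm_num
  have e := sum_prefix _ hb' c 12 hc
  rw [Finset.sum_congr rfl fun q hq => by rw [if_pos (Finset.mem_range.1 hq)]] at e
  rw [e]
  exact Finset.sum_congr rfl fun q hq => by rw [if_pos (by have := Finset.mem_range.1 hq; omega)]

theorem baseVec_eq {s : ℕ} (hs : s < 12) :
    ∃ i : Fin 16240, (i : ℕ) = baseVec s ∧ ∀ f : fourRu, piV f (bPt (s / 2)) = bPt (s / 2) → piV f i = i := by
  have hb : baseList.getD (s / 2) 0 = (bPt (s / 2) : ℕ) := by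
    have : baseList.getD (s / 2) 0 < 16240 := by interval_cases s <;> decide
    exact (Nat.mod_eq_of_lt this).symm
  unfold baseVec
  rw [hb]
  cases Nat.beq (s % 2) 0
  · exact ⟨jI (bPt (s / 2)), val_jI _, fun f h => by rw [piV_jI, h]⟩
  · exact ⟨bPt (s / 2), rfl, fun f h => h⟩

theorem slot_eq {s : ℕ} (hs : s < 12) (j : ℕ) :
    (pp (fun p => dig (contrP.get 120 p) s) (fun p => dig (contrN.get 120 p) s) 16 (itemOf j) : ℤ) =
      64 + dot (vec j) (vecIt 16 (itemOf (baseVec s))) := by
  have hb := allFrom_spec _ _ _ base_checks s (Nat.zero_le _) (by omega)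
  unfold baseOK at hb
  simp only [strict_eq, Bool.and_eq_true] at hb
  set B := itemOf (baseVec s)
  have h8 : ∀ p < 64, dig (contrP.get 120 p) s + dig (contrN.get 120 p) s = 8 ∧
      (dig (contrP.get 120 p) s : ℤ) - dig (contrN.get 120 p) s =
        2 * ((dig (codeP B) p : ℤ) - dig (codeN B) p) := by
    intro p hp
    have h := allFrom_spec _ _ _ (allFrom_spec _ _ _ contr_checks p (Nat.zero_le _) (by omega)) s (Nat.zero_le _)
      (by omega)
    simp only [strict_eq, Bool.and_eq_true, Nat.ble_eq] at h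
    obtain ⟨⟨⟨h1, h2⟩, h3⟩, h4⟩ := h
    rw [Nat.eq_of_beq_eq_true hb.1, Nat.eq_of_beq_eq_true hb.2] at h1 h2 h3 h4
    rw [Nat.eq_of_beq_eq_true h3, Nat.eq_of_beq_eq_true h4]
    omega
  have h2 := pp_add (fun p => dig (contrP.get 120 p) s) (fun p => dig (contrN.get 120 p) s)
    (fun p => dig (contrN.get 120 p) s) (fun p => dig (contrP.get 120 p) s) 16 (itemOf j)
  rw [pp_congr (f' := fun _ => 8) (g' := fun _ => 8) (fun p hp => (h8 p hp).1)
    (fun p hp => by rw [add_comm]; exact (h8 p hp).1), pp_const] at h2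
  have h3 := pp_add (fun p => dig (codeP B) p) (fun p => dig (codeN B) p)
    (fun p => dig (codeP B) p) (fun p => dig (codeN B) p) 16 (itemOf j)
  have h4 := hom_vecIt (AddMonoidHom.mk' (fun x => 2 * dot x (vecIt 16 B)) fun x y => by rw [dot_add_left, mul_add])
    (fun p => dig (contrP.get 120 p) s) (fun p => dig (contrN.get 120 p) s) (fun p hp => by
      show 2 * dot (ev p) _ = _
      rw [(h8 p hp).2, dot_ev hp]
      split
      · rename_i h; rw [co_vecIt _ h]
      · rename_i h
        rw [dig_high (codeP_lt B) (not_lt.1 h), dig_high (codeN_lt B) (not_lt.1 h)]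
        simp) 16 (itemOf j)
  change 2 * dot (vec j) (vecIt 16 B) = _ at h4
  omega

theorem profKey_piV {f : fourRu} {c : ℕ} (hc : c ≤ 6) (hf : Fixes f c) (j : Fin 16240) :
    profKey (piV f j : Fin 16240) (2 * c) = profKey j (2 * c) := by
  rw [profKey_eq _ (by omega), profKey_eq _ (by omega)]
  refine Finset.sum_congr rfl fun s hs => ?_
  have hs := Finset.mem_range.1 hs
  obtain ⟨i, hi, hfix⟩ := baseVec_eq (s := s) (by omega)
  have hfi := hfix f (hf _ (by omega))
  have e1 := slot_eq (s := s) (by omega) (piV f j : Fin 16240)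
  have e2 := slot_eq (s := s) (by omega) j
  have h1 := dot_piV f j i
  rw [hfi, hi] at h1
  rw [show vecIt 16 (itemOf (baseVec s)) = vec (baseVec s) from rfl] at e1 e2
  rw [h1, ← e2] at e1
  rw [Int.ofNat_inj.1 e1]

theorem mem_class {P pos : Tr} {N b : ℕ} {c : ℕ} (h : allFrom (classOK P pos N c b) 16240 0 = true)
    (j : Fin 16240) (hj : profKey j c = b) : ∃ i < N, P.get 20 i = j ∧ pos.get 20 j = i := by
  have h' := allFrom_spec _ _ _ h j (Nat.zero_le _) (by have := j.2; omega)
  unfold classOK at h'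
  simp only [strict_eq, Bool.or_eq_true, Bool.not_eq_true', Bool.and_eq_true, Nat.blt_eq] at h'
  rcases h' with h' | ⟨h1, h2⟩
  · rw [hj] at h'; simp at h'
  · exact ⟨_, h1, Nat.eq_of_beq_eq_true h2, rfl⟩

/-- Profiles of the images of the first two classes. -/
theorem class_one {f : fourRu} (hf : Fixes f 1) : ∃ i < 2304, lev1P.get 20 i = piV f (bPt 1) ∧
    lev1Pos.get 20 (piV f (bPt 1) : Fin 16240) = i :=
  mem_class class1 _ (by rw [profKey_piV (c := 1) (by norm_num) hf, bPt_val.2.1])

theorem class_two {f : fourRu} (hf : Fixes f 2) : ∃ i < 78, lev2P.get 20 i = piV f (bPt 2) ∧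
    lev2Pos.get 20 (piV f (bPt 2) : Fin 16240) = i :=
  mem_class class2 _ (by rw [profKey_piV (c := 2) (by norm_num) hf, bPt_val.2.2.1])

theorem class_three {f : fourRu} (hf : Fixes f 3) :
    ((piV f (bPt 3) : Fin 16240) : ℕ) = 7553 ∨ ((piV f (bPt 3) : Fin 16240) : ℕ) = 7557 := by
  set j := piV f (bPt 3) with hjdef
  have h := allFrom_spec _ _ _ class3 j (Nat.zero_le _) (by have := j.2; omega)
  unfold classThree at h
  simp only [Bool.or_eq_true, Bool.not_eq_true'] at h
  have e : profKey j 6 = profKey 7553 6 := by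
    rw [hjdef, profKey_piV (c := 3) (by norm_num) hf, bPt_val.2.2.2.1]
  rcases h with (h | h) | h
  · rw [e] at h; simp at h
  · exact Or.inl (Nat.eq_of_beq_eq_true h)
  · exact Or.inr (Nat.eq_of_beq_eq_true h)

theorem class_four {f : fourRu} (hf : Fixes f 4) : ∃ i < 25, lev4P.get 20 i = piV f (bPt 4) ∧
    lev4Pos.get 20 (piV f (bPt 4) : Fin 16240) = i :=
  mem_class class4 _ (by rw [profKey_piV (c := 4) (by norm_num) hf, bPt_val.2.2.2.2.1])

theorem class_five {f : fourRu} (hf : Fixes f 5) : ∃ i < 4, lev5P.get 20 i = piV f (bPt 5) ∧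
    lev5Pos.get 20 (piV f (bPt 5) : Fin 16240) = i :=
  mem_class class5 _ (by rw [profKey_piV (c := 5) (by norm_num) hf, bPt_val.2.2.2.2.2])

theorem fixes_single {f : fourRu} (hf : Fixes f 6) {t : ℕ} (ht : t < 56) (j : Fin 16240)
    (hj : (j : ℕ) = singleIdx.get 20 t) : piV f j = j := by
  have hk := allFrom_spec _ _ _ single_checks.2 t (Nat.zero_le _) (by omega)
  unfold singleKeyOK at hk
  simp only [Bool.and_eq_true] at hk
  have e : profKey (piV f j : Fin 16240) 12 = singleKey.get 120 t := by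
    rw [show (12 : ℕ) = 2 * 6 from rfl, profKey_piV le_rfl hf, hj]
    exact Nat.eq_of_beq_eq_true hk.1.2
  have h := allFrom_spec _ _ _ single_checks.1 (piV f j : Fin 16240) (Nat.zero_le _)
    (by have := (piV f j).2; omega)
  unfold singleOK at h
  simp only [strict_eq, Bool.or_eq_true, Bool.not_eq_true', Bool.and_eq_false_iff] at h
  rw [e, Nat.eq_of_beq_eq_true hk.2] at h
  rcases h with (h | h) | h
  · rw [← Bool.not_eq_true, Nat.blt_eq] at h; omega
  · simp at h
  · exact Fin.ext (by rw [← Nat.eq_of_beq_eq_true h, hj])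

theorem smul_vec_even (q : ℕ) (hq : q < 56) :
    (spanDen : ℤ) • vec (2 * q) =
      ∑ t ∈ Finset.range 56, ((coefP.get coefW (56 * q + t) : ℤ) - coefN.get coefW (56 * q + t)) •
        vec (singleIdx.get 20 t) := by
  refine sub_eq_zero.1 (eq_zero_of_co fun r hr => ?_)
  show coHom r (_ - _) = 0
  rw [map_sub, map_zsmul, map_sum, sub_eq_zero, smul_eq_mul]
  show (spanDen : ℤ) * co (vec (2 * q)) r = _
  rw [small_vec (by omega) hr]
  have h := allFrom_spec _ _ _ (allFrom_spec _ _ _ comb_checks q (Nat.zero_le _) (by omega)) r (Nat.zero_le _)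
    (by omega)
  unfold combOK at h
  have h := Nat.eq_of_beq_eq_true h
  have hrec : ∀ (A B : Tr) (m : ℕ), combSum A B q r m = ∑ t ∈ Finset.range m,
      (coefP.get coefW (56 * q + t) * dig (A.get 560 t) r + coefN.get coefW (56 * q + t) * dig (B.get 560 t) r) := by
    intro A B m
    induction m with
    | zero => rfl
    | succ m ih => rw [Finset.sum_range_succ, ← ih]; rfl
  rw [hrec, hrec] at h
  have hcode : ∀ t, t < 56 → singleP.get 560 t = codeP (itemOf (singleIdx.get 20 t)) ∧
      singleN.get 560 t = codeN (itemOf (singleIdx.get 20 t)) := by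
    intro t ht
    have h1 := allFrom_spec _ _ _ singleCode_checks t (Nat.zero_le _) (by omega)
    unfold singleCodeOK at h1
    simp only [strict_eq, Bool.and_eq_true] at h1
    exact ⟨Nat.eq_of_beq_eq_true h1.1, Nat.eq_of_beq_eq_true h1.2⟩
  rw [Finset.sum_congr rfl fun t ht => by rw [(hcode t (Finset.mem_range.1 ht)).1, (hcode t (Finset.mem_range.1 ht)).2]]
    at h
  conv_rhs at h => rw [Finset.sum_congr rfl fun t ht => by
    rw [(hcode t (Finset.mem_range.1 ht)).1, (hcode t (Finset.mem_range.1 ht)).2]]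
  have h' := congrArg (fun a : ℕ => (a : ℤ)) h
  simp only [Nat.cast_add, Nat.cast_sum, Nat.cast_mul] at h'
  have e : ∀ t, coHom r (((coefP.get coefW (56 * q + t) : ℤ) - coefN.get coefW (56 * q + t)) •
      vec (singleIdx.get 20 t)) =
      ((coefP.get coefW (56 * q + t) : ℤ) * dig (codeP (itemOf (singleIdx.get 20 t))) r +
        coefN.get coefW (56 * q + t) * dig (codeN (itemOf (singleIdx.get 20 t))) r) -
      ((coefP.get coefW (56 * q + t) : ℤ) * dig (codeN (itemOf (singleIdx.get 20 t))) r +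
        coefN.get coefW (56 * q + t) * dig (codeP (itemOf (singleIdx.get 20 t))) r) := by
    intro t
    rw [map_zsmul, smul_eq_mul]
    show _ * co (vec _) r = _
    rw [vec, co_vecIt _ hr]
    ring
  rw [Finset.sum_congr rfl fun t _ => e t, Finset.sum_sub_distrib, h']
  rw [Nat.mul_mod_right, Nat.mul_div_cancel_left _ (by norm_num : 0 < 2)]
  by_cases hqr : q = r
  · subst hqr; simp; ring
  · rw [show Nat.beq q r = false from Bool.eq_false_iff.2 fun hh => hqr (Nat.eq_of_beq_eq_true hh),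
      if_neg (Ne.symm hqr)]
    simp

/-- An automorphism fixing the six base vectors is trivial. -/
theorem eq_one_of_fixes {f : fourRu} (hf : Fixes f 6) : f = 1 := by
  refine eq_one_of_fixed fun j => ?_
  refine Fin.ext (vec_injective (piV f j).2 j.2 ?_)
  rw [← vec_piV]
  set S := ((linOf f - (AddSubgroup.subtype ruLattice)).ker.map (AddSubgroup.subtype ruLattice)) with hS
  have hs : ∀ t < 56, vec (singleIdx.get 20 t) ∈ S := by
    intro t ht
    have hk := allFrom_spec _ _ _ single_checks.2 t (Nat.zero_le _) (by omega)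
    unfold singleKeyOK at hk
    simp only [Bool.and_eq_true, Nat.blt_eq] at hk
    refine ⟨⟨_, vec_mem_ruLattice hk.1.1⟩, ?_, rfl⟩
    rw [SetLike.mem_coe, AddMonoidHom.mem_ker, AddMonoidHom.sub_apply, sub_eq_zero]
    have e := vec_piV f ⟨_, hk.1.1⟩
    rw [fixes_single hf ht ⟨_, hk.1.1⟩ rfl] at e
    exact e
  have heven : ∀ q < 56, vec (2 * q) ∈ S := by
    intro q hq
    have h1 : (spanDen : ℤ) • vec (2 * q) ∈ S := by
      rw [smul_vec_even q hq]
      exact sum_mem fun t ht => zsmul_mem (hs t (Finset.mem_range.1 ht)) _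
    obtain ⟨y, hy, he⟩ := h1
    refine ⟨⟨vec (2 * q), vec_mem_ruLattice (by omega)⟩, ?_, rfl⟩
    rw [SetLike.mem_coe, AddMonoidHom.mem_ker] at hy ⊢
    rw [show y = (spanDen : ℤ) • (⟨vec (2 * q), vec_mem_ruLattice (by omega)⟩ : ruLattice) from
      Subtype.ext (he.trans rfl), map_zsmul] at hy
    exact (smul_eq_zero.1 hy).resolve_left (by norm_num [spanDen])
  have h4 : (4 : ℤ) • vec j ∈ S := by
    rw [eq_sum_ev (vec j), Finset.smul_sum]
    refine sum_mem fun q hq => ?_
    rw [smul_comm, ← vec_even (Finset.mem_range.1 hq)]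
    exact zsmul_mem (heven q (Finset.mem_range.1 hq)) _
  obtain ⟨y, hy, he⟩ := h4
  rw [SetLike.mem_coe, AddMonoidHom.mem_ker] at hy
  rw [show y = (4 : ℤ) • (⟨vec j, vec_mem_ruLattice j.2⟩ : ruLattice) from Subtype.ext (he.trans rfl),
    map_zsmul] at hy
  have h0 := (smul_eq_zero.1 hy).resolve_left (by norm_num)
  rw [AddMonoidHom.sub_apply, sub_eq_zero] at h0
  exact h0

end CfsgLib.RuAut
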