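import Cfsg.Agent.Lib.RuAut.GroupDefs

/-! Computations for the Tits group. -/

set_option autoImplicit false
set_option maxRecDepth 100000

namespace CfsgLib.RuAut

open CfsgLib.CosetEnum

theorem tits_trans : allFrom titsTransOK 2304 0 = true := by decide +kernel

theorem tits_sift : allFrom (fun g => allFrom (titsSiftOK g) 2304 0) 2 0 = true := by decide +kernel

theorem equiv_phi : allFrom equivPhiOK 78 0 = true ∧ Nat.beq (phiTab.get 20 116) 7553 = true := by
  constructor <;> decide +kernel

theorem fix_zero : allFrom (fun g => Nat.beq (act titsTab g 0) 0) 4 0 = true := by decide +kernel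

theorem step_one :
    allFrom (fun i => stepOK titsTab lev1P lev1Par lev1Pos titsTab.length i) 2304 0 = true ∧
    allFrom (fun k => compOK titsTab uCols uWords k) 16240 0 = true ∧
    fixesAll titsTab 112 uWords = true := by
  refine ⟨?_, ?_, ?_⟩ <;> decide +kernel

theorem step_two :
    allFrom (fun i => stepOK uCols lev2P lev2Par lev2Pos uCols.length i) 78 0 = true ∧
    allFrom (fun k => compOK uCols gCols gWords k) 16240 0 = true ∧
    fixesAll uCols 116 gWords = true := by
  refine ⟨?_, ?_, ?_⟩ <;> decide +kernel

theorem step_four :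
    allFrom (fun i => stepOK gCols lev4P lev4Par lev4Pos gCols.length i) 25 0 = true ∧
    allFrom (fun k => compOK gCols dCols dWords k) 16240 0 = true ∧
    fixesAll gCols 4 dWords = true := by
  refine ⟨?_, ?_, ?_⟩ <;> decide +kernel

theorem step_five :
    allFrom (fun i => stepOK dCols lev5P lev5Par lev5Pos dCols.length i) 4 0 = true ∧
    allFrom (fun k => compOK dCols [] [] k) 16240 0 = true ∧
    fixesAll dCols 129 [] = true := by
  refine ⟨?_, ?_, ?_⟩ <;> decide +kernel

end CfsgLib.RuAut
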