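import Cfsg.Agent.Lib.RuAut.Profile
import Cfsg.Agent.Lib.RuAut.GroupTools
import Cfsg.Agent.Lib.RuAut.TitsChecks

/-! The Tits group inside the automorphism group: exact order and a membership criterion. -/

set_option autoImplicit false
set_option maxRecDepth 100000

namespace CfsgLib.RuAut

open Cfsg Cfsg.Spor CfsgLib.RuLat CfsgLib.CosetEnum

attribute [local irreducible] Tr.get

/-- The distinguished neighbour as a map. -/
noncomputable def phiF (x : Fin 16240) : Fin 16240 :=
  ⟨phiTab.get 20 x % 16240, Nat.mod_lt _ (by norm_num)⟩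

/-- Membership in the third class. -/
def InC2 (x : Fin 16240) : Prop := profKey x 4 = profKey 116 4

theorem fixes_two {f : fourRu} (h0 : piV f (bPt 0) = bPt 0) (h1 : piV f (bPt 1) = bPt 1) : Fixes f 2 := by
  intro k hk; interval_cases k <;> assumption

theorem inC2_piV {f : fourRu} (h : Fixes f 2) {x : Fin 16240} (hx : InC2 x) : InC2 (piV f x) := by
  unfold InC2 at *
  rw [show (4 : ℕ) = 2 * 2 from rfl, profKey_piV (by norm_num) h]
  exact hx

theorem inC2_base : InC2 (bPt 2) := by
  unfold InC2; rw [bPt_val.2.2.1]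

theorem phiF_base : phiF (bPt 2) = bPt 3 := by
  refine Fin.ext ?_
  show phiTab.get 20 (bPt 2 : Fin 16240) % 16240 = _
  rw [bPt_val.2.2.1, Nat.eq_of_beq_eq_true equiv_phi.2, bPt_val.2.2.2.1]

/-- The stabiliser of two base vectors respecting the distinguished neighbours. -/
noncomputable def uGroup : Subgroup fourRu where
  carrier := {f | piV f (bPt 0) = bPt 0 ∧ piV f (bPt 1) = bPt 1 ∧ ∀ x, InC2 x → phiF (piV f x) = piV f (phiF x)}
  one_mem' := ⟨by rw [map_one]; rfl, by rw [map_one]; rfl, fun x _ => by rw [map_one]; rfl⟩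
  mul_mem' := by
    rintro f g ⟨a0, a1, a2⟩ ⟨c0, c1, c2⟩
    refine ⟨by rw [map_mul, Equiv.Perm.mul_apply, c0, a0], by rw [map_mul, Equiv.Perm.mul_apply, c1, a1],
      fun x hx => ?_⟩
    rw [map_mul, Equiv.Perm.mul_apply, Equiv.Perm.mul_apply, a2 _ (inC2_piV (fixes_two c0 c1) hx), c2 x hx]
  inv_mem' := by
    rintro f ⟨a0, a1, a2⟩
    have b0 : piV f⁻¹ (bPt 0) = bPt 0 := by rw [map_inv, Equiv.Perm.inv_def, Equiv.symm_apply_eq, a0]
    have b1 : piV f⁻¹ (bPt 1) = bPt 1 := by rw [map_inv, Equiv.Perm.inv_def, Equiv.symm_apply_eq, a1]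
    refine ⟨b0, b1, fun x hx => ?_⟩
    have h := a2 _ (inC2_piV (fixes_two b0 b1) hx)
    rw [← Equiv.Perm.mul_apply (piV f) (piV f⁻¹), ← map_mul, mul_inv_cancel, map_one, Equiv.Perm.one_apply] at h
    rw [h, ← Equiv.Perm.mul_apply (piV f⁻¹) (piV f), ← map_mul, inv_mul_cancel, map_one, Equiv.Perm.one_apply]

/-- Stabiliser of the first base vectors. -/
noncomputable def gFix (c : ℕ) : Subgroup fourRu where
  carrier := {f | Fixes f c}
  one_mem' := fun k _ => by rw [map_one]; rfl
  mul_mem' := fun {f g} hf hg k hk => by rw [map_mul, Equiv.Perm.mul_apply, hg k hk, hf k hk]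
  inv_mem' := fun {f} hf k hk => by rw [map_inv, Equiv.Perm.inv_def, Equiv.symm_apply_eq, hf k hk]

theorem fixes_succ {f : fourRu} {c : ℕ} (h : Fixes f c) (h' : piV f (bPt c) = bPt c) : Fixes f (c + 1) := by
  intro k hk
  rcases Nat.lt_succ_iff_lt_or_eq.1 hk with h1 | rfl
  · exact h k h1
  · exact h'

theorem card_gFix_four : Nat.card (gFix 4) ≤ 100 := by
  have h6 : Nat.card (gFix 6) ≤ 1 := by
    rw [show gFix 6 = ⊥ from (Subgroup.eq_bot_iff_forall _).2 fun f hf => eq_one_of_fixes hf, Subgroup.card_bot]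
  have h5 : Nat.card (gFix 5) ≤ 4 * Nat.card (gFix 6) :=
    card_le_of_orbit piV (gFix 5) (gFix 6) (bPt 5) (fun f hf h => fixes_succ hf h) 4 (fun i => lev5P.get 20 i)
      fun f hf => (class_five hf).imp fun i h => ⟨h.1, h.2.1⟩
  have h4 : Nat.card (gFix 4) ≤ 25 * Nat.card (gFix 5) :=
    card_le_of_orbit piV (gFix 4) (gFix 5) (bPt 4) (fun f hf h => fixes_succ hf h) 25 (fun i => lev4P.get 20 i)
      fun f hf => (class_four hf).imp fun i h => ⟨h.1, h.2.1⟩
  omega

/-- The Tits group. -/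
noncomputable def titsGrp : Subgroup fourRu := Subgroup.closure {eT, eT2}

theorem realised_tits : Realised piV titsGrp titsTab := by
  intro j hj
  have hj : j < 4 := hj
  interval_cases j
  · exact ⟨eT, Subgroup.subset_closure (by simp), fun k => by rw [acts_eT k, act_get _ (by decide)]; rfl⟩
  · exact ⟨eT2, Subgroup.subset_closure (by simp), fun k => by rw [acts_eT2 k, act_get _ (by decide)]; rfl⟩
  · exact ⟨eT⁻¹, inv_mem (Subgroup.subset_closure (by simp)), fun k => by
      rw [acts_inv_all.2.1 k, act_get _ (by decide)]; rfl⟩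
  · exact ⟨eT2⁻¹, inv_mem (Subgroup.subset_closure (by simp)), fun k => by
      rw [acts_inv_all.2.2 k, act_get _ (by decide)]; rfl⟩

theorem titsGrp_fix {f : fourRu} (hf : f ∈ titsGrp) : piV f (bPt 0) = bPt 0 := by
  induction hf using Subgroup.closure_induction with
  | mem g hg =>
    refine Fin.ext ?_
    rcases hg with rfl | rfl
    · rw [acts_eT (bPt 0), bPt_val.1]
      have := allFrom_spec _ _ _ fix_zero 0 le_rfl (by norm_num)
      rw [act_get _ (by decide)] at this
      exact Nat.eq_of_beq_eq_true this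
    · rw [acts_eT2 (bPt 0), bPt_val.1]
      have := allFrom_spec _ _ _ fix_zero 1 (Nat.zero_le _) (by norm_num)
      rw [act_get _ (by decide)] at this
      exact Nat.eq_of_beq_eq_true this
  | one => rw [map_one]; rfl
  | mul a b _ _ ha hb => rw [map_mul, Equiv.Perm.mul_apply, hb, ha]
  | inv a _ ha => rw [map_inv, Equiv.Perm.inv_def, Equiv.symm_apply_eq, ha]

theorem card_ge_of_uCols (K : Subgroup fourRu) (hK : Realised piV K uCols) : 7800 ≤ Nat.card K := by
  have s2 := base_step piV hK gCols gWords lev2P lev2Par lev2Pos 116 78 (by norm_num) (by decide +kernel)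
    (fun i hi => allFrom_spec _ _ _ step_two.1 i (Nat.zero_le _) (by omega)) (by decide +kernel) (by decide +kernel)
    (fun k hk => allFrom_spec _ _ _ step_two.2.1 k (Nat.zero_le _) (by omega)) step_two.2.2
  refine le_trans ?_ (le_of_step piV s2 (c := 100) fun H _ hH => ?_)
  · norm_num
  have s4 := base_step piV hH dCols dWords lev4P lev4Par lev4Pos 4 25 (by norm_num) (by decide +kernel)
    (fun i hi => allFrom_spec _ _ _ step_four.1 i (Nat.zero_le _) (by omega)) (by decide +kernel) (by decide +kernel)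
    (fun k hk => allFrom_spec _ _ _ step_four.2.1 k (Nat.zero_le _) (by omega)) step_four.2.2
  refine le_trans ?_ (le_of_step piV s4 (c := 4) fun H' _ hH' => ?_)
  · norm_num
  have s5 := base_step piV hH' [] [] lev5P lev5Par lev5Pos 129 4 (by norm_num) (by decide +kernel)
    (fun i hi => allFrom_spec _ _ _ step_five.1 i (Nat.zero_le _) (by omega)) (by decide +kernel) (by decide +kernel)
    (fun k hk => allFrom_spec _ _ _ step_five.2.1 k (Nat.zero_le _) (by omega)) step_five.2.2
  exact le_trans (by norm_num) (le_of_step piV s5 (c := 1) fun H'' _ _ => one_le_card H'')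

theorem card_titsGrp_ge : 17971200 ≤ Nat.card titsGrp := by
  have s1 := base_step piV realised_tits uCols uWords lev1P lev1Par lev1Pos 112 2304 (by norm_num) (by decide +kernel)
    (fun i hi => allFrom_spec _ _ _ step_one.1 i (Nat.zero_le _) (by omega)) (by decide +kernel) (by decide +kernel)
    (fun k hk => allFrom_spec _ _ _ step_one.2.1 k (Nat.zero_le _) (by omega)) step_one.2.2
  exact le_trans (by norm_num) (le_of_step piV s1 (c := 7800) fun H _ hH => card_ge_of_uCols H hH)

theorem exists_C2_index {x : Fin 16240} (hx : InC2 x) : ∃ i < 78, lev2P.get 20 i = x :=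
  (mem_class class2 x hx).imp fun _ h => ⟨h.1, h.2.1⟩

theorem realised_uGroup : Realised piV uGroup uCols := by
  have hlen : uWords.length = uCols.length := by decide +kernel
  intro j hj
  have hw : ∀ x ∈ uWords.getD j [], x < titsTab.length := by
    have h : (uWords.all fun l => l.all fun x => decide (x < titsTab.length)) = true := by decide +kernel
    simp only [List.all_eq_true, decide_eq_true_eq] at h
    rw [List.getD_eq_getElem _ _ (hlen ▸ hj)]
    exact h _ (List.getElem_mem _)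
  obtain ⟨z, hz, hzk⟩ := realised_scan piV realised_tits _ hw
  have hcol : ∀ k : Fin 16240, ((piV z k : Fin 16240) : ℕ) = act uCols j k := fun k => by
    rw [hzk]
    exact Nat.eq_of_beq_eq_true (allFrom_spec _ _ _
      (allFrom_spec _ _ _ step_one.2.1 k (Nat.zero_le _) (by omega)) j (Nat.zero_le _) (by omega))
  have hfix : piV z (bPt 1) = bPt 1 := by
    refine Fin.ext ?_
    rw [hzk, bPt_val.2.1, List.getD_eq_getElem _ _ (hlen ▸ hj)]
    exact fixesAll_spec _ _ _ step_one.2.2 _ (List.getElem_mem _)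
  refine ⟨z, ⟨titsGrp_fix hz, hfix, fun x hx => ?_⟩, hcol⟩
  obtain ⟨i, hi, hix⟩ := exists_C2_index hx
  have h := allFrom_spec _ _ _ equiv_phi.1 i (Nat.zero_le _) (by omega)
  unfold equivPhiOK at h
  simp only [strict_eq, Bool.and_eq_true, Nat.blt_eq] at h
  rw [hix] at h
  have hj4 : j < 4 := hj
  have e := Nat.eq_of_beq_eq_true (allFrom_spec _ _ _ h.2 j (Nat.zero_le _) (by omega))
  have hphi : ((phiF x : Fin 16240) : ℕ) = phiTab.get 20 x := Nat.mod_eq_of_lt h.1
  refine Fin.ext ?_
  rw [hcol, hphi]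
  show phiTab.get 20 (piV z x : Fin 16240) % 16240 = _
  rw [hcol, e, Nat.mod_eq_of_lt]
  have := (piV z (phiF x)).2
  rwa [hcol, hphi] at this

theorem uGroup_stab {f : fourRu} (hf : f ∈ uGroup) (h2 : piV f (bPt 2) = bPt 2) : f ∈ gFix 4 := by
  refine fixes_succ (fixes_succ (fixes_two hf.1 hf.2.1) h2) ?_
  rw [← phiF_base, ← hf.2.2 _ inC2_base, h2]

theorem card_uGroup : Nat.card uGroup ≤ 7800 ∧ gFix 4 ≤ uGroup := by
  have hle := card_le_of_orbit piV uGroup (uGroup ⊓ gFix 4) (bPt 2)
    (fun z hz h => Subgroup.mem_inf.2 ⟨hz, uGroup_stab hz h⟩) 78 (fun i => lev2P.get 20 i)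
    fun z hz => exists_C2_index (inC2_piV (fixes_two hz.1 hz.2.1) inC2_base)
  have h1 : Nat.card (uGroup ⊓ gFix 4 : Subgroup fourRu) ≤ Nat.card (gFix 4) := Subgroup.card_le_of_le inf_le_right
  have h2 := card_gFix_four
  have h3 := card_ge_of_uCols uGroup realised_uGroup
  refine ⟨by omega, ?_⟩
  rw [← Subgroup.eq_of_le_of_card_ge (inf_le_right : uGroup ⊓ gFix 4 ≤ gFix 4) (by omega)]
  exact inf_le_left

theorem uGroup_transitive {x : Fin 16240} (hx : InC2 x) : ∃ u ∈ uGroup, piV u (bPt 2) = x := by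
  classical
  obtain ⟨i, hi, hix⟩ := exists_C2_index hx
  by_contra hne
  push Not at hne
  have hle := card_le_of_orbit piV uGroup (gFix 4) (bPt 2) (fun z hz h => uGroup_stab hz h) 77
    (fun a => lev2P.get 20 (if a < i then a else a + 1)) fun z hz => by
      obtain ⟨a, ha, hax⟩ := exists_C2_index (inC2_piV (fixes_two hz.1 hz.2.1) inC2_base)
      have hai : a ≠ i := fun e => hne z hz (Fin.ext (by rw [← hax, e, hix]))
      rcases lt_or_gt_of_ne hai with h | h
      · exact ⟨a, by omega, by rw [if_pos h]; exact hax⟩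
      · exact ⟨a - 1, by omega, by rw [if_neg (by omega), Nat.sub_add_cancel (by omega)]; exact hax⟩
  have h3 := card_ge_of_uCols uGroup realised_uGroup
  have h2 := card_gFix_four
  omega

theorem mem_uGroup {s : fourRu} (h0 : piV s (bPt 0) = bPt 0) (h1 : piV s (bPt 1) = bPt 1)
    (h : piV s (bPt 3) = phiF (piV s (bPt 2))) : s ∈ uGroup := by
  have hs := fixes_two h0 h1
  obtain ⟨u, hu, hu2⟩ := uGroup_transitive (inC2_piV hs inC2_base)
  have hu3 : piV u (bPt 3) = piV s (bPt 3) := by rw [h, ← hu2, hu.2.2 _ inC2_base, phiF_base]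
  have e : ∀ k, piV u (bPt k) = piV s (bPt k) → piV (u⁻¹ * s) (bPt k) = bPt k := fun k hk => by
    rw [map_mul, Equiv.Perm.mul_apply, ← hk, ← Equiv.Perm.mul_apply, ← map_mul, inv_mul_cancel, map_one,
      Equiv.Perm.one_apply]
  have hm : u⁻¹ * s ∈ gFix 4 := fixes_succ (fixes_succ
    (fixes_two (e 0 (by rw [hu.1, h0])) (e 1 (by rw [hu.2.1, h1]))) (e 2 hu2)) (e 3 hu3)
  have := uGroup.mul_mem hu (card_uGroup.2 hm)
  rwa [mul_inv_cancel_left] at this

theorem titsTrans_spec {i : ℕ} (hi : i < 2304) :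
    lettersOK titsTab (titsWord i) = true ∧ scanC titsTab (titsWord i) 112 = lev1P.get 20 i ∧
      lev1Pos.get 20 (lev1P.get 20 i) = i := by
  have h := allFrom_spec _ _ _ tits_trans i (Nat.zero_le _) (by omega)
  unfold titsTransOK at h
  simp only [strict_eq, Bool.and_eq_true] at h
  exact ⟨h.1.1, Nat.eq_of_beq_eq_true h.1.2, Nat.eq_of_beq_eq_true h.2⟩

/-- Transversal elements of the Tits group. -/
noncomputable def titsRep (i : Fin 2304) : fourRu :=
  (exists_word piV realised_tits (titsTrans_spec i.2).1).choose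

theorem titsRep_mem (i : Fin 2304) : titsRep i ∈ titsGrp :=
  (exists_word piV realised_tits (titsTrans_spec i.2).1).choose_spec.1

theorem titsRep_apply (i : Fin 2304) (k : Fin 16240) :
    ((piV (titsRep i) k : Fin 16240) : ℕ) = scanC titsTab (titsWord i) k :=
  (exists_word piV realised_tits (titsTrans_spec i.2).1).choose_spec.2 k

/-- The sifted set of the Tits group. -/
noncomputable def titsSet : Set fourRu := {z | ∃ i : Fin 2304, ∃ u ∈ uGroup, z = titsRep i * u}

theorem sift_mem {r₁ r₂ : fourRu} (hr : piV r₁ (bPt 0) = bPt 0) (hr' : piV r₂ (bPt 0) = bPt 0)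
    (h1 : piV r₁ (bPt 1) = piV r₂ (bPt 1)) {x : Fin 16240} (h2 : piV r₁ x = piV r₂ (bPt 2))
    (h3 : piV r₁ (phiF x) = piV r₂ (bPt 3)) : r₁⁻¹ * r₂ ∈ uGroup := by
  have e : ∀ {a : Fin 16240} {k : ℕ}, piV r₁ a = piV r₂ (bPt k) → piV (r₁⁻¹ * r₂) (bPt k) = a := fun {a k} hk => by
    rw [map_mul, Equiv.Perm.mul_apply, ← hk, ← Equiv.Perm.mul_apply, ← map_mul, inv_mul_cancel, map_one,
      Equiv.Perm.one_apply]
  exact mem_uGroup (e (hr.trans hr'.symm)) (e h1) (by rw [e h2, e h3])

theorem titsSet_closed {g : ℕ} (hg : g < 2) {eg : fourRu} (hmem : eg ∈ titsGrp)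
    (hact : ∀ k : Fin 16240, ((piV eg k : Fin 16240) : ℕ) = act titsTab g k) :
    ∀ y ∈ titsSet, eg * y ∈ titsSet := by
  rintro _ ⟨i, u, hu, rfl⟩
  have h := allFrom_spec _ _ _ (allFrom_spec _ _ _ tits_sift g (Nat.zero_le _) (by omega)) i (Nat.zero_le _)
    (by have := i.2; omega)
  unfold titsSiftOK at h
  simp only [strict_eq, Bool.and_eq_true, Nat.blt_eq] at h
  obtain ⟨⟨⟨⟨hi', hy⟩, hx⟩, h2⟩, h3⟩ := h
  have hy := Nat.eq_of_beq_eq_true hy
  have h2 := Nat.eq_of_beq_eq_true h2
  have h3 := Nat.eq_of_beq_eq_true h3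
  set i' : Fin 2304 := ⟨_, hi'⟩
  set x : Fin 16240 := ⟨_, hx⟩
  have p0 := titsGrp_fix (titsRep_mem i')
  have q0 := titsGrp_fix (mul_mem hmem (titsRep_mem i))
  have p1 : piV (titsRep i') (bPt 1) = piV (eg * titsRep i) (bPt 1) := by
    refine Fin.ext ?_
    rw [map_mul, Equiv.Perm.mul_apply, titsRep_apply, hact, titsRep_apply, bPt_val.2.1,
      (titsTrans_spec i.2).2.1, (titsTrans_spec i'.2).2.1]
    exact hy
  have p2 : piV (titsRep i') x = piV (eg * titsRep i) (bPt 2) := by
    refine Fin.ext ?_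
    rw [map_mul, Equiv.Perm.mul_apply, titsRep_apply, hact, titsRep_apply, bPt_val.2.2.1]
    exact h2
  have hC : InC2 x := by
    have e : ∀ {k : ℕ} {a : Fin 16240}, piV (titsRep i') a = piV (eg * titsRep i) (bPt k) →
        piV ((titsRep i')⁻¹ * (eg * titsRep i)) (bPt k) = a := fun {k a} hk => by
      rw [map_mul, Equiv.Perm.mul_apply, ← hk, ← Equiv.Perm.mul_apply, ← map_mul, inv_mul_cancel, map_one,
        Equiv.Perm.one_apply]
    rw [← e p2]
    exact inC2_piV (fixes_two (e (p0.trans q0.symm)) (e p1)) inC2_base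
  have p3 : piV (titsRep i') (phiF x) = piV (eg * titsRep i) (bPt 3) := by
    refine Fin.ext ?_
    rw [map_mul, Equiv.Perm.mul_apply, titsRep_apply, hact, titsRep_apply, bPt_val.2.2.2.1, ← h3]
    refine congrArg _ (Nat.mod_eq_of_lt ?_)
    obtain ⟨a, ha, hax⟩ := exists_C2_index hC
    have hp := allFrom_spec _ _ _ equiv_phi.1 a (Nat.zero_le _) (by omega)
    unfold equivPhiOK at hp
    simp only [strict_eq, Bool.and_eq_true, Nat.blt_eq] at hp
    rw [hax] at hp
    exact hp.1
  have hsum := sift_mem p0 q0 p1 p2 p3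
  exact ⟨i', _, uGroup.mul_mem hsum hu, by group⟩

theorem titsRep_zero : titsRep ⟨0, by norm_num⟩ = 1 := by
  refine eq_one_of_fixed fun k => Fin.ext ?_
  rw [titsRep_apply]
  have : unpack (titsWord 0) = [] := by decide +kernel
  rw [scanC_eq, this, scan_nil]

theorem card_titsGrp_and :
    Nat.card titsGrp = 17971200 ∧ uGroup ≤ titsGrp ∧ ∀ z ∈ titsGrp, z ∈ titsSet := by
  classical
  have hsub : ∀ z ∈ titsGrp, z ∈ titsSet := by
    intro z hz
    have h1 : (1 : fourRu) ∈ titsSet := by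
      exact ⟨⟨0, by norm_num⟩, 1, uGroup.one_mem, by rw [titsRep_zero, one_mul]⟩
    have := closure_mul_mem {eT, eT2} titsSet (fun g hg => by
      rcases hg with rfl | rfl
      · exact titsSet_closed (g := 0) (by norm_num) (Subgroup.subset_closure (by simp))
          fun k => by rw [acts_eT k, act_get _ (by decide)]; rfl
      · exact titsSet_closed (g := 1) (by norm_num) (Subgroup.subset_closure (by simp))
          fun k => by rw [acts_eT2 k, act_get _ (by decide)]; rfl) hz 1 h1
    rwa [mul_one] at this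
  let F : titsGrp → Fin 2304 × uGroup := fun z =>
    ((hsub z z.2).choose, ⟨(hsub z z.2).choose_spec.choose, (hsub z z.2).choose_spec.choose_spec.1⟩)
  have hF : ∀ z : titsGrp, (z : fourRu) = titsRep (F z).1 * (F z).2 := fun z =>
    (hsub z z.2).choose_spec.choose_spec.2
  have hinj : Function.Injective F := fun a b h => Subtype.ext (by rw [hF a, hF b, h])
  have hle := Nat.card_le_card_of_injective F hinj
  rw [Nat.card_prod, Nat.card_fin] at hle
  have h1 := card_uGroup.1
  have h2 := card_titsGrp_ge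
  refine ⟨by omega, fun u hu => ?_, hsub⟩
  have hsurj : Function.Surjective F :=
    ((Nat.bijective_iff_injective_and_card F).2 ⟨hinj, by rw [Nat.card_prod, Nat.card_fin]; omega⟩).2
  obtain ⟨z, hz⟩ := hsurj (⟨0, by norm_num⟩, ⟨u, hu⟩)
  have e := hF z
  rw [hz] at e
  have : titsRep ⟨0, by norm_num⟩ * u ∈ titsGrp := e ▸ z.2
  exact ((Subgroup.mul_mem_cancel_left _ (titsRep_mem _)).1 this)

theorem card_titsGrp : Nat.card titsGrp = 17971200 := card_titsGrp_and.1

/-- Membership in the Tits group by sifting. -/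
theorem mem_titsGrp {s : fourRu} (h0 : piV s (bPt 0) = bPt 0) (i : Fin 2304) {x : Fin 16240}
    (h1 : piV (titsRep i) (bPt 1) = piV s (bPt 1)) (h2 : piV (titsRep i) x = piV s (bPt 2))
    (h3 : piV (titsRep i) (phiF x) = piV s (bPt 3)) : s ∈ titsGrp := by
  have := card_titsGrp_and.2.1 (sift_mem (titsGrp_fix (titsRep_mem i)) h0 h1 h2 h3)
  exact (Subgroup.mul_mem_cancel_left _ (inv_mem (titsRep_mem i))).1 this

theorem tits_stab {s : fourRu} (hs : s ∈ titsGrp) (h1 : piV s (bPt 1) = bPt 1) : s ∈ uGroup := by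
  obtain ⟨i, u, hu, rfl⟩ := card_titsGrp_and.2.2 s hs
  rw [map_mul, Equiv.Perm.mul_apply, hu.2.1] at h1
  have e := congrArg Fin.val h1
  rw [titsRep_apply, bPt_val.2.1, (titsTrans_spec i.2).2.1] at e
  have h0 := (titsTrans_spec (show 0 < 2304 by norm_num)).2.2
  have hi := (titsTrans_spec i.2).2.2
  rw [e] at hi
  have hP : lev1P.get 20 0 = 112 := by decide +kernel
  rw [hP, hi] at h0
  rw [show i = ⟨0, by norm_num⟩ from Fin.ext h0, titsRep_zero, one_mul]
  exact hu

/-- Elements of the Tits group sift. -/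
theorem sift_of_mem {s : fourRu} (hs : s ∈ titsGrp) (i : Fin 2304) {x : Fin 16240}
    (h1 : piV (titsRep i) (bPt 1) = piV s (bPt 1)) (h2 : piV (titsRep i) x = piV s (bPt 2)) :
    piV (titsRep i) (phiF x) = piV s (bPt 3) := by
  have hu : (titsRep i)⁻¹ * s ∈ titsGrp := mul_mem (inv_mem (titsRep_mem i)) hs
  have e : ∀ {a : Fin 16240} {k : ℕ}, piV (titsRep i) a = piV s (bPt k) →
      piV ((titsRep i)⁻¹ * s) (bPt k) = a := fun {a k} hk => by
    rw [map_mul, Equiv.Perm.mul_apply, ← hk, ← Equiv.Perm.mul_apply, ← map_mul, inv_mul_cancel, map_one,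
      Equiv.Perm.one_apply]
  have hmem : (titsRep i)⁻¹ * s ∈ uGroup := tits_stab hu (e h1)
  rw [← e h2, hmem.2.2 _ inC2_base, phiF_base, map_mul, Equiv.Perm.mul_apply, ← Equiv.Perm.mul_apply, ← map_mul,
    mul_inv_cancel, map_one, Equiv.Perm.one_apply]

end CfsgLib.RuAut
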